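import Mathlib

set_option autoImplicit false

/-!
# Livingstone–Wagner, part (b) (S0748): shared definitions

Blueprint: `notes/S0748_blueprint_helper6.md`.  Everything lives over a permutation group
`G : Subgroup (Equiv.Perm α)` on a finite type; elements of `G` act on `α` through the subgroup
action (`g • a = (g : Equiv.Perm α) a`).

`Hyp2 G t ℓ δ`: a counterexample at level `k = t + 1`: `G` is `t`-transitive (`t ≥ 4`),
`(t+1)`-homogeneous, not `(t+1)`-transitive, of degree `≥ 2t + 2`; the pointwise stabiliser of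
every `t`-set has order `ℓ * δ`, the pointwise stabiliser of every `(t+1)`-set has order `δ`
(so every orbit of a `t`-point stabiliser on the remaining points has size `ℓ`).
-/

namespace Cfsg.Agent.LWB

open MulAction

universe u

/-- standing hypotheses: a counterexample to `(t+1)`-transitivity -/
structure Hyp2 {α : Type u} [Fintype α] [DecidableEq α] (G : Subgroup (Equiv.Perm α))
    (t ℓ δ : ℕ) : Prop where
  ht : 4 ≤ t
  hn : 2 * t + 2 ≤ Fintype.card α
  trans : IsMultiplyPretransitive G α t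
  homog : IsPretransitive G (Set.powersetCard α (t + 1))
  ntrans : ¬ IsMultiplyPretransitive G α (t + 1)
  cardK : ∀ Γ : Finset α, Γ.card = t → Nat.card (fixingSubgroup G (Γ : Set α)) = ℓ * δ
  cardD : ∀ Δ : Finset α, Δ.card = t + 1 → Nat.card (fixingSubgroup G (Δ : Set α)) = δ

/-- the induction hypothesis: the theorem holds in all degrees `< n` (same universe) -/
def IH (n t : ℕ) : Prop :=
  ∀ (β : Type u) [Fintype β] [DecidableEq β] (N : Subgroup (Equiv.Perm β)),
    Fintype.card β < n → 2 * t + 2 ≤ Fintype.card β →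
    IsPretransitive N (Set.powersetCard β (t + 1)) → IsMultiplyPretransitive N β (t + 1)

variable {α : Type u} [Fintype α] [DecidableEq α] {G : Subgroup (Equiv.Perm α)}

open Classical in
/-- the fixed points of a subgroup `Q` of `G`, as a finset -/
noncomputable def fixF (Q : Subgroup G) : Finset α :=
  Finset.univ.filter (fun z => ∀ g ∈ Q, g • z = z)

theorem mem_fixF {Q : Subgroup G} {z : α} : z ∈ fixF Q ↔ ∀ g ∈ Q, g • z = z := by
  classical
  unfold fixF
  rw [Finset.mem_filter]
  exact ⟨fun h => h.2, fun h => ⟨Finset.mem_univ _, h⟩⟩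

/-- the group induced on an invariant finset `Φ` by a subgroup `H` of `G` -/
def restrict (H : Subgroup G) (Φ : Finset α) : Subgroup (Equiv.Perm Φ) where
  carrier := {σ | ∃ g ∈ H, ∀ z : Φ, ((σ z : Φ) : α) = g • (z : α)}
  one_mem' := ⟨1, H.one_mem, fun z => by simp⟩
  mul_mem' := by
    rintro σ τ ⟨g, hg, hσ⟩ ⟨h, hh, hτ⟩
    refine ⟨g * h, H.mul_mem hg hh, fun z => ?_⟩
    rw [Equiv.Perm.mul_apply, hσ, hτ, mul_smul]
  inv_mem' := by
    rintro σ ⟨g, hg, hσ⟩
    refine ⟨g⁻¹, H.inv_mem hg, fun z => ?_⟩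
    have := hσ (σ⁻¹ z)
    have e : σ (σ⁻¹ z) = z := by simp
    rw [e] at this
    rw [this, inv_smul_smul]

omit [Fintype α] [DecidableEq α] in
theorem mem_restrict {H : Subgroup G} {Φ : Finset α} {σ : Equiv.Perm Φ} :
    σ ∈ restrict H Φ ↔ ∃ g ∈ H, ∀ z : Φ, ((σ z : Φ) : α) = g • (z : α) := Iff.rfl

omit [Fintype α] [DecidableEq α] in
/-- every element of `H` induces an element of `restrict H Φ` when `Φ` is `H`-invariant -/
theorem exists_restrict {H : Subgroup G} {Φ : Finset α} (hΦ : ∀ g ∈ H, ∀ z ∈ Φ, g • z ∈ Φ)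
    {g : G} (hg : g ∈ H) : ∃ σ ∈ restrict H Φ, ∀ z : Φ, ((σ z : Φ) : α) = g • (z : α) := by
  refine ⟨⟨fun z => ⟨g • (z : α), hΦ g hg z z.2⟩, fun z => ⟨g⁻¹ • (z : α), hΦ g⁻¹ (H.inv_mem hg) z z.2⟩,
    fun z => by simp, fun z => by simp⟩, ⟨g, hg, fun z => rfl⟩, fun z => rfl⟩

/-- the normaliser of `Q` in `G` preserves the fixed points of `Q` -/
theorem normalizer_fixF (Q : Subgroup G) :
    ∀ g ∈ Subgroup.normalizer (Q : Set G), ∀ z ∈ fixF Q, g • z ∈ fixF Q := by
  intro g hg z hz
  rw [mem_fixF] at hz ⊢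
  intro h hh
  have h1 : g⁻¹ * h * g ∈ Q := (Subgroup.mem_normalizer_iff''.1 hg h).1 hh
  have h2 := hz _ h1
  calc h • g • z = g • (g⁻¹ * h * g) • z := by simp [mul_smul]
    _ = g • z := by rw [h2]

/-- the group induced by `N_G(Q)` on the fixed points of `Q` -/
noncomputable def NQ (Q : Subgroup G) : Subgroup (Equiv.Perm (fixF Q)) :=
  restrict (Subgroup.normalizer (Q : Set G)) (fixF Q)

end Cfsg.Agent.LWB
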