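import Mathlib
import Cfsg.Agent.LWB.Defs
import Cfsg.Agent.LW.Orders
import Cfsg.Agent.LW.Trans
import Cfsg.Agent.LW.FixTriv

set_option autoImplicit false

/-! S0748 package P1 (file `Cfsg/Agent/LWB/Basic.lean`): orbits of the `t`-point stabilisers.
Blueprint `notes/S0748_blueprint_helper6.md` §1. -/

namespace Cfsg.Agent.LWB

open MulAction

universe u

variable {α : Type u} [Fintype α] [DecidableEq α] {G : Subgroup (Equiv.Perm α)} {t ℓ δ : ℕ}

/-- all `t`-set fixers of a `t`-transitive group have the same order -/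
theorem lwb_basic_cardK_eq (htr : IsMultiplyPretransitive G α t) (ht : t ≤ Fintype.card α)
    (Γ Γ' : Finset α) (hΓ : Γ.card = t) (hΓ' : Γ'.card = t) :
    Nat.card (fixingSubgroup G (Γ : Set α)) = Nat.card (fixingSubgroup G (Γ' : Set α)) := by
  have h1 := LW.lw_card_of_trans htr (Γ : Set α) (by rw [Set.ncard_coe_finset, hΓ])
  have h2 := LW.lw_card_of_trans htr (Γ' : Set α) (by rw [Set.ncard_coe_finset, hΓ'])
  have hpos : 0 < (Nat.card α).descFactorial t := by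
    rw [Nat.pos_iff_ne_zero, Ne, Nat.descFactorial_eq_zero_iff_lt, Nat.card_eq_fintype_card]
    omega
  rw [h1] at h2
  exact Nat.eq_of_mul_eq_mul_left hpos h2

omit [Fintype α] in
/-- orbit–stabiliser for finsets -/
theorem lwb_basic_orbit_mul (Γ : Finset α) (x : α) :
    Nat.card (orbit (fixingSubgroup G (Γ : Set α)) x) *
      Nat.card (fixingSubgroup G ((insert x Γ : Finset α) : Set α)) =
      Nat.card (fixingSubgroup G (Γ : Set α)) := by
  have := LW.lw_fixtriv_orbit_mul (G := G) (Γ : Set α) x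
  rwa [← Finset.coe_insert] at this

theorem lwb_exists_hyp (ht : 4 ≤ t) (hn : 2 * t + 2 ≤ Fintype.card α)
    (htr : IsMultiplyPretransitive G α t) (hh : IsPretransitive G (Set.powersetCard α (t + 1)))
    (hnt : ¬ IsMultiplyPretransitive G α (t + 1)) : ∃ ℓ δ : ℕ, Hyp2 G t ℓ δ := by
  obtain ⟨Γ₀, -, hΓ₀⟩ := Finset.exists_subset_card_eq (s := (Finset.univ : Finset α)) (n := t)
    (by rw [Finset.card_univ]; omega)
  obtain ⟨x₀, hx₀⟩ : ∃ x₀, x₀ ∉ Γ₀ := by
    by_contra hcon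
    push Not at hcon
    have : Γ₀ = Finset.univ := Finset.eq_univ_iff_forall.2 hcon
    rw [this, Finset.card_univ] at hΓ₀
    omega
  have hΔ₀ : (insert x₀ Γ₀).card = t + 1 := by rw [Finset.card_insert_of_notMem hx₀, hΓ₀]
  refine ⟨Nat.card (orbit (fixingSubgroup G (Γ₀ : Set α)) x₀),
    Nat.card (fixingSubgroup G ((insert x₀ Γ₀ : Finset α) : Set α)), ht, hn, htr, hh, hnt, ?_, ?_⟩
  · intro Γ hΓ
    rw [lwb_basic_orbit_mul]
    exact lwb_basic_cardK_eq htr (by omega) Γ Γ₀ hΓ hΓ₀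
  · intro Δ hΔ
    exact LW.lw_card_fix_eq hh (Set.powersetCard.ofCard hΔ) (Set.powersetCard.ofCard hΔ₀)

theorem lwb_pos (h : Hyp2 G t ℓ δ) : 0 < ℓ ∧ 0 < δ := by
  obtain ⟨Γ₀, -, hΓ₀⟩ := Finset.exists_subset_card_eq (s := (Finset.univ : Finset α)) (n := t)
    (by rw [Finset.card_univ]; have := h.hn; omega)
  have h1 := h.cardK Γ₀ hΓ₀
  have h2 : 0 < Nat.card (fixingSubgroup G (Γ₀ : Set α)) := Nat.card_pos
  rw [h1] at h2
  exact ⟨Nat.pos_of_mul_pos_right h2, Nat.pos_of_mul_pos_left h2⟩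

theorem lwb_orbit_card (h : Hyp2 G t ℓ δ) (Γ : Finset α) (hΓ : Γ.card = t) (x : α) (hx : x ∉ Γ) :
    Nat.card (orbit (fixingSubgroup G (Γ : Set α)) x) = ℓ := by
  have h1 := lwb_basic_orbit_mul (G := G) Γ x
  rw [h.cardK Γ hΓ, h.cardD (insert x Γ) (by rw [Finset.card_insert_of_notMem hx, hΓ])] at h1
  exact Nat.eq_of_mul_eq_mul_right (lwb_pos h).2 h1

theorem lwb_two_orbits (h : Hyp2 G t ℓ δ) (Γ : Finset α) (hΓ : Γ.card = t) :
    ∃ x y : α, x ∉ Γ ∧ y ∉ Γ ∧ ∀ g ∈ fixingSubgroup G (Γ : Set α), g • x ≠ y := by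
  by_contra hcon
  push Not at hcon
  apply h.ntrans
  apply LW.lw_succ_trans h.trans (Γ : Set α) (by rw [Set.ncard_coe_finset, hΓ])
  intro x y hx hy
  exact hcon x y (by simpa using hx) (by simpa using hy)

open Classical in
/-- the orbit of `x` under the fixer of `Γ`, as a finset -/
noncomputable def lwb_basic_orb (G : Subgroup (Equiv.Perm α)) (Γ : Finset α) (x : α) : Finset α :=
  Finset.univ.filter (fun z => ∃ g ∈ fixingSubgroup G (Γ : Set α), g • x = z)

theorem lwb_basic_mem_orb {Γ : Finset α} {x z : α} :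
    z ∈ lwb_basic_orb G Γ x ↔ ∃ g ∈ fixingSubgroup G (Γ : Set α), g • x = z := by
  classical
  unfold lwb_basic_orb
  rw [Finset.mem_filter]
  exact ⟨fun h => h.2, fun h => ⟨Finset.mem_univ _, h⟩⟩

theorem lwb_basic_card_orb (Γ : Finset α) (x : α) :
    (lwb_basic_orb G Γ x).card = Nat.card (orbit (fixingSubgroup G (Γ : Set α)) x) := by
  classical
  have e : (orbit (fixingSubgroup G (Γ : Set α)) x) = ((lwb_basic_orb G Γ x : Finset α) : Set α) := by
    ext z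
    rw [Finset.mem_coe, lwb_basic_mem_orb, mem_orbit_iff]
    constructor
    · rintro ⟨g, hg⟩
      exact ⟨g.1, g.2, hg⟩
    · rintro ⟨g, hg, hgz⟩
      exact ⟨⟨g, hg⟩, hgz⟩
  rw [e, Nat.card_coe_set_eq, Set.ncard_coe_finset]

theorem lwb_basic_orb_subset (Γ : Finset α) (x : α) (hx : x ∉ Γ) :
    lwb_basic_orb G Γ x ⊆ Finset.univ \ Γ := by
  intro z hz
  rw [lwb_basic_mem_orb] at hz
  obtain ⟨g, hg, rfl⟩ := hz
  rw [Finset.mem_sdiff]
  refine ⟨Finset.mem_univ _, fun hmem => hx ?_⟩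
  have h1 : g • (g • x) = g • x := (mem_fixingSubgroup_iff G).1 hg _ (by simpa using hmem)
  have h2 : g • x = x := smul_left_cancel g h1
  rwa [h2] at hmem

theorem lwb_basic_orb_disjoint (Γ : Finset α) (x y : α)
    (hxy : ∀ g ∈ fixingSubgroup G (Γ : Set α), g • x ≠ y) :
    Disjoint (lwb_basic_orb G Γ x) (lwb_basic_orb G Γ y) := by
  rw [Finset.disjoint_left]
  intro z hzx hzy
  rw [lwb_basic_mem_orb] at hzx hzy
  obtain ⟨g, hg, rfl⟩ := hzx
  obtain ⟨g', hg', hgg⟩ := hzy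
  apply hxy (g'⁻¹ * g) (Subgroup.mul_mem _ (Subgroup.inv_mem _ hg') hg)
  rw [mul_smul, ← hgg, inv_smul_smul]

theorem lwb_two_mul_le (h : Hyp2 G t ℓ δ) : 2 * ℓ ≤ Fintype.card α - t := by
  obtain ⟨Γ, -, hΓ⟩ := Finset.exists_subset_card_eq (s := (Finset.univ : Finset α)) (n := t)
    (by rw [Finset.card_univ]; have := h.hn; omega)
  obtain ⟨x, y, hx, hy, hxy⟩ := lwb_two_orbits h Γ hΓ
  have h1 : (lwb_basic_orb G Γ x ∪ lwb_basic_orb G Γ y).card ≤ (Finset.univ \ Γ).card :=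
    Finset.card_le_card (Finset.union_subset (lwb_basic_orb_subset Γ x hx)
      (lwb_basic_orb_subset Γ y hy))
  rw [Finset.card_union_of_disjoint (lwb_basic_orb_disjoint Γ x y hxy), lwb_basic_card_orb,
    lwb_basic_card_orb, lwb_orbit_card h Γ hΓ x hx, lwb_orbit_card h Γ hΓ y hy,
    Finset.card_univ_sdiff, hΓ] at h1
  omega

theorem lwb_orbit_cover (h : Hyp2 G t ℓ δ) (hr : Fintype.card α - t = 2 * ℓ) (Γ : Finset α)
    (hΓ : Γ.card = t) (x y : α) (hx : x ∉ Γ) (hy : y ∉ Γ)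
    (hxy : ∀ g ∈ fixingSubgroup G (Γ : Set α), g • x ≠ y) (z : α) (hz : z ∉ Γ) :
    (∃ g ∈ fixingSubgroup G (Γ : Set α), g • x = z) ∨
      (∃ g ∈ fixingSubgroup G (Γ : Set α), g • y = z) := by
  have hsub : lwb_basic_orb G Γ x ∪ lwb_basic_orb G Γ y ⊆ Finset.univ \ Γ :=
    Finset.union_subset (lwb_basic_orb_subset Γ x hx) (lwb_basic_orb_subset Γ y hy)
  have hcard : (Finset.univ \ Γ).card ≤ (lwb_basic_orb G Γ x ∪ lwb_basic_orb G Γ y).card := by
    rw [Finset.card_union_of_disjoint (lwb_basic_orb_disjoint Γ x y hxy), lwb_basic_card_orb,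
      lwb_basic_card_orb, lwb_orbit_card h Γ hΓ x hx, lwb_orbit_card h Γ hΓ y hy,
      Finset.card_univ_sdiff, hΓ]
    omega
  have heq := Finset.eq_of_subset_of_card_le hsub hcard
  have hzm : z ∈ lwb_basic_orb G Γ x ∪ lwb_basic_orb G Γ y := by
    rw [heq, Finset.mem_sdiff]
    exact ⟨Finset.mem_univ _, hz⟩
  rw [Finset.mem_union, lwb_basic_mem_orb, lwb_basic_mem_orb] at hzm
  exact hzm

open scoped Pointwise in
theorem lwb_trans_of_induced (hh : IsPretransitive G (Set.powersetCard α (t + 1)))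
    (Δ : Finset α) (hΔ : Δ.card = t + 1)
    (hind : ∀ σ : Equiv.Perm Δ, ∃ g : G, ∀ z : Δ, g • (z : α) = ((σ z : Δ) : α)) :
    IsMultiplyPretransitive G α (t + 1) := by
  apply LW.lw_trans_of_swaps hh
  intro Δ' hΔ' x hx y hy hxy
  obtain ⟨γ, hγ⟩ := hh.exists_smul_eq (Set.powersetCard.ofCard hΔ') (Set.powersetCard.ofCard hΔ)
  have hγ' : γ • Δ' = Δ := by
    have := congrArg Subtype.val hγ
    exact this
  have hmem : ∀ w ∈ Δ', γ • w ∈ Δ := by
    intro w hw
    rw [← hγ']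
    exact Finset.smul_mem_smul_finset hw
  obtain ⟨g₀, hg₀⟩ := hind (Equiv.swap ⟨γ • x, hmem x hx⟩ ⟨γ • y, hmem y hy⟩)
  refine ⟨γ⁻¹ * g₀ * γ, ?_, ?_, ?_⟩
  · rw [mul_smul, mul_smul, inv_smul_eq_iff]
    have := hg₀ ⟨γ • x, hmem x hx⟩
    rw [Equiv.swap_apply_left] at this
    exact this
  · rw [mul_smul, mul_smul, inv_smul_eq_iff]
    have := hg₀ ⟨γ • y, hmem y hy⟩
    rw [Equiv.swap_apply_right] at this
    exact this
  · intro w hw hwx hwy
    rw [mul_smul, mul_smul, inv_smul_eq_iff]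
    have := hg₀ ⟨γ • w, hmem w hw⟩
    rw [Equiv.swap_apply_of_ne_of_ne] at this
    · exact this
    · intro hcon
      exact hwx (smul_left_cancel γ (congrArg Subtype.val hcon))
    · intro hcon
      exact hwy (smul_left_cancel γ (congrArg Subtype.val hcon))

end Cfsg.Agent.LWB
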