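import Mathlib

set_option autoImplicit false
set_option linter.unusedSectionVars false
set_option linter.style.haveILetI false

/-! S0748 package P4 (file `Cfsg/Agent/LWB/PermS.lean`): a permutation group containing an element with
support exactly `Λ` for every `s`-set `Λ` contains the alternating group.
Blueprint `notes/S0748_blueprint_helper6.md` §5. -/

namespace Cfsg.Agent.LWB

open MulAction
open scoped Pointwise

variable {β : Type*} [Fintype β] [DecidableEq β]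

theorem lwb_perms_apply_inv (f : Equiv.Perm β) (x : β) : f (f⁻¹ x) = x := f.apply_symm_apply x

theorem lwb_perms_apply_mem {a : Equiv.Perm β} {Λ : Finset β} (ha : ∀ z, a z ≠ z ↔ z ∈ Λ) {z : β}
    (hz : z ∈ Λ) : a z ∈ Λ := by
  rw [← ha]
  intro h
  exact (ha z).mpr hz (a.injective h)

theorem lwb_perms_fix {a : Equiv.Perm β} {Λ : Finset β} (ha : ∀ z, a z ≠ z ↔ z ∈ Λ) {z : β}
    (hz : z ∉ Λ) : a z = z := by
  by_contra h
  exact hz ((ha z).mp h)

theorem lwb_perms_symm_fix {a : Equiv.Perm β} {Λ : Finset β} (ha : ∀ z, a z ≠ z ↔ z ∈ Λ) {z : β}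
    (hz : z ∉ Λ) : a⁻¹ z = z := by
  rw [Equiv.Perm.inv_eq_iff_eq]
  exact (lwb_perms_fix ha hz).symm

theorem lwb_perms_symm_mem {a : Equiv.Perm β} {Λ : Finset β} (ha : ∀ z, a z ≠ z ↔ z ∈ Λ) {z : β}
    (hz : z ∈ Λ) : a⁻¹ z ∈ Λ := by
  by_contra h
  have h1 : a (a⁻¹ z) = a⁻¹ z := lwb_perms_fix ha h
  rw [lwb_perms_apply_inv] at h1
  exact h (h1 ▸ hz)

/-- two permutations whose supports meet in exactly one point: the commutator is a `3`-cycle. -/
theorem lwb_perms_three {a b : Equiv.Perm β} {Λ₁ Λ₂ : Finset β} {p : β}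
    (ha : ∀ z, a z ≠ z ↔ z ∈ Λ₁) (hb : ∀ z, b z ≠ z ↔ z ∈ Λ₂) (hp : Λ₁ ∩ Λ₂ = {p}) :
    (a * b * a⁻¹ * b⁻¹).IsThreeCycle := by
  have hp12 : p ∈ Λ₁ ∩ Λ₂ := by rw [hp]; exact Finset.mem_singleton_self p
  have hp1 : p ∈ Λ₁ := (Finset.mem_inter.mp hp12).1
  have hp2 : p ∈ Λ₂ := (Finset.mem_inter.mp hp12).2
  have hint : ∀ z, z ∈ Λ₁ → z ∈ Λ₂ → z = p := by
    intro z h1 h2
    have : z ∈ Λ₁ ∩ Λ₂ := Finset.mem_inter.mpr ⟨h1, h2⟩
    rw [hp] at this
    exact Finset.mem_singleton.mp this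
  have hap : a p ≠ p := (ha p).mpr hp1
  have hbp : b p ≠ p := (hb p).mpr hp2
  have hap1 : a p ∈ Λ₁ := lwb_perms_apply_mem ha hp1
  have hbp2 : b p ∈ Λ₂ := lwb_perms_apply_mem hb hp2
  have hap2 : a p ∉ Λ₂ := fun h => hap (hint _ hap1 h)
  have hbp1 : b p ∉ Λ₁ := fun h => hbp (hint _ h hbp2)
  have hab : a p ≠ b p := fun h => hap2 (h ▸ hbp2)
  have key : a * b * a⁻¹ * b⁻¹ = Equiv.swap p (b p) * Equiv.swap p (a p) := by
    ext z
    simp only [Equiv.Perm.coe_mul, Function.comp_apply]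
    by_cases hz2 : z ∈ Λ₂
    · have hy2 : b⁻¹ z ∈ Λ₂ := lwb_perms_symm_mem hb hz2
      by_cases hy : b⁻¹ z = p
      · have hz : z = b p := by
          rw [← hy]
          simp
        have hv1 : a⁻¹ p ∈ Λ₁ := lwb_perms_symm_mem ha hp1
        have hvp : a⁻¹ p ≠ p := by
          intro h
          rw [Equiv.Perm.inv_eq_iff_eq] at h
          exact hap h.symm
        have hv2 : a⁻¹ p ∉ Λ₂ := fun h => hvp (hint _ hv1 h)
        rw [hy, lwb_perms_fix hb hv2, lwb_perms_apply_inv, hz,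
          Equiv.swap_apply_of_ne_of_ne hbp hab.symm, Equiv.swap_apply_right]
      · have hy1 : b⁻¹ z ∉ Λ₁ := fun h => hy (hint _ h hy2)
        rw [lwb_perms_symm_fix ha hy1, lwb_perms_apply_inv]
        by_cases hzp : z = p
        · rw [hzp, Equiv.swap_apply_left, Equiv.swap_apply_of_ne_of_ne hap hab]
        · have hz1 : z ∉ Λ₁ := fun h => hzp (hint _ h hz2)
          have hzbp : z ≠ b p := by
            intro h
            apply hy
            rw [h]
            simp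
          have hzap : z ≠ a p := fun h => hz1 (h ▸ hap1)
          rw [lwb_perms_fix ha hz1, Equiv.swap_apply_of_ne_of_ne hzp hzap,
            Equiv.swap_apply_of_ne_of_ne hzp hzbp]
    · rw [lwb_perms_symm_fix hb hz2]
      have hzp : z ≠ p := fun h => hz2 (h ▸ hp2)
      have hzbp : z ≠ b p := fun h => hz2 (h ▸ hbp2)
      by_cases hz1 : z ∈ Λ₁
      · have hv1 : a⁻¹ z ∈ Λ₁ := lwb_perms_symm_mem ha hz1
        by_cases hv : a⁻¹ z = p
        · have hz : z = a p := by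
            rw [← hv]
            simp
          rw [hv, lwb_perms_fix ha hbp1, hz, Equiv.swap_apply_right, Equiv.swap_apply_left]
        · have hv2 : a⁻¹ z ∉ Λ₂ := fun h => hv (hint _ hv1 h)
          have hzap : z ≠ a p := by
            intro h
            apply hv
            rw [h]
            simp
          rw [lwb_perms_fix hb hv2, lwb_perms_apply_inv, Equiv.swap_apply_of_ne_of_ne hzp hzap,
            Equiv.swap_apply_of_ne_of_ne hzp hzbp]
      · have hzap : z ≠ a p := fun h => hz1 (h ▸ hap1)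
        rw [lwb_perms_symm_fix ha hz1, lwb_perms_fix hb hz2, lwb_perms_fix ha hz1,
          Equiv.swap_apply_of_ne_of_ne hzp hzap, Equiv.swap_apply_of_ne_of_ne hzp hzbp]
  rw [key]
  exact Equiv.Perm.isThreeCycle_swap_mul_swap_same hbp.symm hap.symm hab.symm

/-- the basic tool: an element of `N` moving `z` with support inside `{z} ∪ C`. -/
theorem lwb_perms_key (N : Subgroup (Equiv.Perm β)) (s : ℕ) (hs : 1 ≤ s)
    (hN : ∀ Λ : Finset β, Λ.card = s → ∃ σ ∈ N, ∀ z, σ z ≠ z ↔ z ∈ Λ)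
    (z : β) (C : Finset β) (hz : z ∉ C) (hC : s - 1 ≤ C.card) :
    ∃ σ ∈ N, σ z ≠ z ∧ σ z ∈ C ∧ ∀ w, σ w ≠ w → w = z ∨ w ∈ C := by
  obtain ⟨Λ', hΛ', hcard⟩ := Finset.exists_subset_card_eq hC
  have hzΛ : z ∉ Λ' := fun h => hz (hΛ' h)
  obtain ⟨σ, hσN, hσ⟩ := hN (insert z Λ') (by rw [Finset.card_insert_of_notMem hzΛ, hcard]; omega)
  have hmove : σ z ≠ z := (hσ z).mpr (Finset.mem_insert_self _ _)
  have hsupp : ∀ w, σ w ≠ w → w = z ∨ w ∈ C := by
    intro w hw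
    rcases Finset.mem_insert.mp ((hσ w).mp hw) with h | h
    · exact Or.inl h
    · exact Or.inr (hΛ' h)
  refine ⟨σ, hσN, hmove, ?_, hsupp⟩
  have h2 : σ (σ z) ≠ σ z := fun h => hmove (σ.injective h)
  rcases hsupp _ h2 with h | h
  · exact absurd h hmove
  · exact h

theorem lwb_perms_trans (N : Subgroup (Equiv.Perm β)) (s : ℕ) (hs : 3 ≤ s)
    (hcard : 2 * s ≤ Fintype.card β + 1)
    (hN : ∀ Λ : Finset β, Λ.card = s → ∃ σ ∈ N, ∀ z, σ z ≠ z ↔ z ∈ Λ) :
    IsPretransitive N β := by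
  classical
  constructor
  intro x y
  by_contra hxy
  obtain ⟨A, hA⟩ : ∃ A : Finset β, ∀ w, w ∈ A ↔ w ∈ orbit N x :=
    ⟨Finset.univ.filter (fun w => w ∈ orbit N x), fun w => by simp⟩
  have hxA : x ∈ A := (hA x).mpr (mem_orbit_self x)
  have hyA : y ∉ A := by
    rw [hA]
    rintro ⟨g, hg⟩
    exact hxy ⟨g, hg⟩
  have hAinv : ∀ σ (hσ : σ ∈ N) (w : β), σ w ∈ A ↔ w ∈ A := by
    intro σ hσ w
    rw [hA, hA]
    change ((⟨σ, hσ⟩ : N) • w ∈ orbit N x) ↔ _
    rw [mem_orbit_symm, orbit_smul, mem_orbit_symm]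
  have hsum : A.card + Aᶜ.card = Fintype.card β := Finset.card_add_card_compl A
  rcases le_or_gt (s - 1) Aᶜ.card with h | h
  · obtain ⟨σ, hσN, _, hσC, _⟩ :=
      lwb_perms_key N s (by omega) hN x Aᶜ (by rw [Finset.mem_compl]; exact fun h => h hxA) h
    exact (Finset.mem_compl.mp hσC) ((hAinv σ hσN x).mpr hxA)
  · have h' : s - 1 ≤ A.card := by omega
    obtain ⟨σ, hσN, _, hσC, _⟩ := lwb_perms_key N s (by omega) hN y A hyA h'
    exact hyA ((hAinv σ hσN y).mp hσC)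

theorem lwb_perms_prim (N : Subgroup (Equiv.Perm β)) (s : ℕ) (hs : 3 ≤ s)
    (hcard : 2 * s ≤ Fintype.card β + 1)
    (hN : ∀ Λ : Finset β, Λ.card = s → ∃ σ ∈ N, ∀ z, σ z ≠ z ↔ z ∈ Λ) :
    IsPreprimitive N β := by
  classical
  haveI := lwb_perms_trans N s hs hcard hN
  refine ⟨?_⟩
  intro B hB
  by_contra hnt
  unfold IsTrivialBlock at hnt
  obtain ⟨hns, hnu⟩ := not_or.mp hnt
  rw [Set.not_subsingleton_iff] at hns
  obtain ⟨z, hzB, z₂, hz₂B, hzz₂⟩ := hns
  have hlt : Set.ncard B * 2 ≤ Nat.card β := not_lt.mp (fun h => hnu (hB.eq_univ_of_card_lt h))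
  rw [Nat.card_eq_fintype_card, Set.ncard_eq_toFinset_card' B] at hlt
  have hsum : B.toFinset.card + B.toFinsetᶜ.card = Fintype.card β := Finset.card_add_card_compl _
  have hC : s - 1 ≤ B.toFinsetᶜ.card := by omega
  have hmemC : ∀ w, w ∈ B.toFinsetᶜ ↔ w ∉ B := by
    intro w
    rw [Finset.mem_compl, Set.mem_toFinset]
  have hzC : z ∉ B.toFinsetᶜ := by
    rw [hmemC]
    exact fun h => h hzB
  obtain ⟨σ, hσN, hmove, hσC, hsupp⟩ := lwb_perms_key N s (by omega) hN z _ hzC hC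
  have hσz : σ z ∉ B := (hmemC _).mp hσC
  rcases hB.smul_eq_or_disjoint (⟨σ, hσN⟩ : N) with h | h
  · apply hσz
    have h1 : (⟨σ, hσN⟩ : N) • z ∈ (⟨σ, hσN⟩ : N) • B := Set.smul_mem_smul_set hzB
    rw [h] at h1
    exact h1
  · have h2 : σ z₂ ∉ B := by
      intro h'
      have h1 : (⟨σ, hσN⟩ : N) • z₂ ∈ (⟨σ, hσN⟩ : N) • B := Set.smul_mem_smul_set hz₂B
      exact Set.disjoint_left.mp h h1 h'
    have hmove2 : σ z₂ ≠ z₂ := fun h' => h2 (by rw [h']; exact hz₂B)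
    rcases hsupp z₂ hmove2 with h' | h'
    · exact hzz₂ h'.symm
    · exact (hmemC _).mp h' hz₂B

theorem lwb_perm_alt (N : Subgroup (Equiv.Perm β)) (s : ℕ) (hs : 3 ≤ s)
    (hcard : 2 * s ≤ Fintype.card β + 1)
    (hN : ∀ Λ : Finset β, Λ.card = s → ∃ σ ∈ N, ∀ z, σ z ≠ z ↔ z ∈ Λ) :
    alternatingGroup β ≤ N := by
  have hprim := lwb_perms_prim N s hs hcard hN
  obtain ⟨T, -, hT⟩ := Finset.exists_subset_card_eq (s := (Finset.univ : Finset β)) (n := 2 * s - 1)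
    (by rw [Finset.card_univ]; omega)
  obtain ⟨Λ₁, hΛ₁T, hΛ₁⟩ := Finset.exists_subset_card_eq (s := T) (n := s) (by omega)
  have hR : (T \ Λ₁).card = s - 1 := by
    rw [Finset.card_sdiff_of_subset hΛ₁T]
    omega
  have hne : Λ₁.Nonempty := Finset.card_pos.mp (by omega)
  obtain ⟨p, hp⟩ := hne
  have hpR : p ∉ T \ Λ₁ := fun h => (Finset.mem_sdiff.mp h).2 hp
  have hΛ₂ : (insert p (T \ Λ₁)).card = s := by
    rw [Finset.card_insert_of_notMem hpR, hR]
    omega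
  have hint : Λ₁ ∩ insert p (T \ Λ₁) = {p} := by
    ext w
    simp only [Finset.mem_inter, Finset.mem_insert, Finset.mem_sdiff, Finset.mem_singleton]
    constructor
    · rintro ⟨h1, rfl | ⟨_, h2⟩⟩
      · rfl
      · exact absurd h1 h2
    · rintro rfl
      exact ⟨hp, Or.inl rfl⟩
  obtain ⟨a, haN, ha⟩ := hN Λ₁ hΛ₁
  obtain ⟨b, hbN, hb⟩ := hN _ hΛ₂
  exact Equiv.Perm.alternatingGroup_le_of_isPreprimitive_of_isThreeCycle_mem hprim
    (lwb_perms_three ha hb hint) (mul_mem (mul_mem (mul_mem haN hbN) (inv_mem haN)) (inv_mem hbN))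

theorem lwb_perm_top (N : Subgroup (Equiv.Perm β))
    (hN : ∀ Λ : Finset β, Λ.card = 2 → ∃ σ ∈ N, ∀ z, σ z ≠ z ↔ z ∈ Λ) : N = ⊤ := by
  rw [eq_top_iff, ← Equiv.Perm.closure_isSwap, Subgroup.closure_le]
  rintro τ ⟨x, y, hxy, rfl⟩
  obtain ⟨σ, hσN, hσ⟩ := hN {x, y} (Finset.card_pair hxy)
  have hx : σ x = y := by
    have h1 : σ x ∈ ({x, y} : Finset β) := lwb_perms_apply_mem hσ (by simp)
    have h2 : σ x ≠ x := (hσ x).mpr (by simp)
    rcases Finset.mem_insert.mp h1 with h | h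
    · exact absurd h h2
    · exact Finset.mem_singleton.mp h
  have hy : σ y = x := by
    have h1 : σ y ∈ ({x, y} : Finset β) := lwb_perms_apply_mem hσ (by simp)
    have h2 : σ y ≠ y := (hσ y).mpr (by simp)
    rcases Finset.mem_insert.mp h1 with h | h
    · exact h
    · exact absurd (Finset.mem_singleton.mp h) h2
  have hst : σ = Equiv.swap x y := by
    ext z
    by_cases hzx : z = x
    · rw [hzx, hx, Equiv.swap_apply_left]
    · by_cases hzy : z = y
      · rw [hzy, hy, Equiv.swap_apply_right]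
      · rw [Equiv.swap_apply_of_ne_of_ne hzx hzy]
        exact lwb_perms_fix hσ (by simp [hzx, hzy])
  rw [SetLike.mem_coe, ← hst]
  exact hσN

end Cfsg.Agent.LWB
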