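import Mathlib

set_option autoImplicit false
set_option linter.unusedSectionVars false

/-! S0748 package P2a (file `Cfsg/Agent/LWB/Syl.lean`): Sylow facts in elementary form.
Blueprint `notes/S0748_blueprint_helper6.md` §2a.  Generic finite group `H`. -/

namespace Cfsg.Agent.LWB

open scoped Pointwise

variable {H : Type*} [Group H] [Finite H]

/-- a subgroup of `D` and the subgroup of `↥D` it defines have the same order -/
theorem lwb_syl_card_subgroupOf {D Q : Subgroup H} (h : Q ≤ D) : Nat.card (Q.subgroupOf D) = Nat.card Q :=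
  Nat.card_congr (Subgroup.subgroupOfEquivOfLe h).toEquiv

/-- the order of the image of a subgroup of `↥D` in `H` -/
theorem lwb_syl_card_map (D : Subgroup H) (P : Subgroup D) : Nat.card (P.map D.subtype) = Nat.card P :=
  (Nat.card_congr (P.equivMapOfInjective D.subtype D.subtype_injective).toEquiv).symm

/-- the exponent of a prime power dividing exactly the order -/
theorem lwb_syl_exp_eq (D : Subgroup H) (q a : ℕ) [Fact q.Prime] (h1 : q ^ a ∣ Nat.card D)
    (h2 : ¬ q ^ (a + 1) ∣ Nat.card D) : a = (Nat.card D).factorization q := by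
  have hq : q.Prime := Fact.out
  have hn : Nat.card D ≠ 0 := Nat.card_pos.ne'
  have e1 := (hq.pow_dvd_iff_le_factorization hn).mp h1
  have e2 : ¬ a + 1 ≤ (Nat.card D).factorization q := fun h => h2 ((hq.pow_dvd_iff_le_factorization hn).mpr h)
  omega

/-- a Sylow `q`-subgroup of `D`, with its order -/
theorem lwb_syl_exists (D : Subgroup H) (q : ℕ) [Fact q.Prime] :
    ∃ (Q : Subgroup H) (a : ℕ), Q ≤ D ∧ Nat.card Q = q ^ a ∧ q ^ a ∣ Nat.card D ∧
      ¬ q ^ (a + 1) ∣ Nat.card D := by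
  have hq : q.Prime := Fact.out
  obtain ⟨P⟩ : Nonempty (Sylow q D) := inferInstance
  refine ⟨(P : Subgroup D).map D.subtype, (Nat.card D).factorization q, ?_, ?_, ?_, ?_⟩
  · rintro _ ⟨x, -, rfl⟩
    exact x.2
  · rw [lwb_syl_card_map]
    exact P.card_eq_multiplicity
  · exact Nat.ordProj_dvd _ _
  · exact Nat.pow_succ_factorization_not_dvd Nat.card_pos.ne' hq

/-- two subgroups of `D` of order `q ^ a`, `q ^ (a+1) ∤ |D|`, are conjugate under `D` -/
theorem lwb_syl_conj (D : Subgroup H) (q a : ℕ) [Fact q.Prime] (hD : ¬ q ^ (a + 1) ∣ Nat.card D)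
    (Q₁ Q₂ : Subgroup H) (h₁ : Q₁ ≤ D) (h₂ : Q₂ ≤ D) (c₁ : Nat.card Q₁ = q ^ a)
    (c₂ : Nat.card Q₂ = q ^ a) : ∃ d ∈ D, ∀ x, x ∈ Q₂ ↔ d⁻¹ * x * d ∈ Q₁ := by
  have hdvd : q ^ a ∣ Nat.card D := by
    rw [← c₁]
    exact Subgroup.card_dvd_of_le h₁
  have ha := lwb_syl_exp_eq D q a hdvd hD
  have e₁ : Nat.card (Q₁.subgroupOf D) = q ^ (Nat.card D).factorization q := by
    rw [lwb_syl_card_subgroupOf h₁, c₁, ← ha]
  have e₂ : Nat.card (Q₂.subgroupOf D) = q ^ (Nat.card D).factorization q := by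
    rw [lwb_syl_card_subgroupOf h₂, c₂, ← ha]
  obtain ⟨g, hg⟩ := MulAction.exists_smul_eq D (Sylow.ofCard _ e₁) (Sylow.ofCard _ e₂)
  have hg' : MulAut.conj g • (Q₁.subgroupOf D) = Q₂.subgroupOf D := by
    have := congrArg (fun P : Sylow q D => (P : Subgroup D)) hg
    simpa [Sylow.coe_subgroup_smul] using this
  refine ⟨g.1, g.2, fun x => ?_⟩
  constructor
  · intro hx
    have hxD : x ∈ D := h₂ hx
    have h1 : (⟨x, hxD⟩ : D) ∈ Q₂.subgroupOf D := Subgroup.mem_subgroupOf.mpr hx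
    rw [← hg', Subgroup.mem_pointwise_smul_iff_inv_smul_mem] at h1
    have h2 := Subgroup.mem_subgroupOf.mp h1
    simpa [MulAut.smul_def, MulAut.conj_inv_apply] using h2
  · intro hx
    have hxD : x ∈ D := by
      have h3 : g.1⁻¹ * x * g.1 ∈ D := h₁ hx
      have : x = g.1 * (g.1⁻¹ * x * g.1) * g.1⁻¹ := by group
      rw [this]
      exact mul_mem (mul_mem g.2 h3) (inv_mem g.2)
    have h1 : (⟨x, hxD⟩ : D) ∈ MulAut.conj g • (Q₁.subgroupOf D) := by
      rw [Subgroup.mem_pointwise_smul_iff_inv_smul_mem]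
      refine Subgroup.mem_subgroupOf.mpr ?_
      simpa [MulAut.smul_def, MulAut.conj_inv_apply] using hx
    rw [hg'] at h1
    exact Subgroup.mem_subgroupOf.mp h1

/-- a non-Sylow `q`-subgroup `Q` of `K` grows inside `N_K(Q)` -/
theorem lwb_syl_grow (K : Subgroup H) (q a : ℕ) [Fact q.Prime] (hK : q ^ (a + 1) ∣ Nat.card K)
    (Q : Subgroup H) (hQ : Q ≤ K) (c : Nat.card Q = q ^ a) :
    ∃ Q₂ : Subgroup H, Q ≤ Q₂ ∧ Q₂ ≤ K ∧ Q₂ ≤ Subgroup.normalizer (Q : Set H) ∧
      Nat.card Q₂ = q ^ (a + 1) := by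
  have hq : q.Prime := Fact.out
  have e : Nat.card (Q.subgroupOf K) = q ^ a := by rw [lwb_syl_card_subgroupOf hQ, c]
  obtain ⟨K', hK'card, hK'le⟩ := Sylow.exists_subgroup_card_pow_succ hK e
  have hle : Q ≤ K'.map K.subtype := by
    intro x hx
    exact ⟨⟨x, hQ hx⟩, hK'le (Subgroup.mem_subgroupOf.mpr hx), rfl⟩
  have hcard : Nat.card (K'.map K.subtype) = q ^ (a + 1) := by rw [lwb_syl_card_map, hK'card]
  refine ⟨K'.map K.subtype, hle, ?_, ?_, hcard⟩
  · rintro _ ⟨x, -, rfl⟩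
    exact x.2
  · rw [← Subgroup.normal_subgroupOf_iff_le_normalizer hle]
    apply Subgroup.normal_of_index_eq_minFac_card
    rw [hcard, hq.pow_minFac (Nat.succ_ne_zero a)]
    have h1 := (Q.subgroupOf (K'.map K.subtype)).index_mul_card
    rw [lwb_syl_card_subgroupOf hle, c, hcard, pow_succ'] at h1
    exact Nat.eq_of_mul_eq_mul_right (pow_pos hq.pos a) h1

end Cfsg.Agent.LWB
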