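import Mathlib
import Cfsg.Agent.LWB.Defs
import Cfsg.Agent.LWB.Syl
import Cfsg.Agent.LWB.Basic

set_option autoImplicit false

/-! S0748 package P3 (file `Cfsg/Agent/LWB/Small.lean`): elements of small support in `N_G(Q)` on `Fix(Q)`.
Blueprint `notes/S0748_blueprint_helper6.md` §4. -/

namespace Cfsg.Agent.LWB

open MulAction

universe u

variable {α : Type u} [Fintype α] [DecidableEq α] {G : Subgroup (Equiv.Perm α)} {t ℓ δ : ℕ}

theorem lwb_small (h : Hyp2 G t ℓ δ) (q a : ℕ) [Fact q.Prime] (hqℓ : q ∣ ℓ)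
    (hqa : q ^ a ∣ δ) (hδ : ¬ q ^ (a + 1) ∣ δ) (Q : Subgroup G) (hQ : Nat.card Q = q ^ a)
    (Λ : Finset (fixF Q)) (hΛ : Λ.card + t = (fixF Q).card) :
    ∃ σ ∈ NQ Q, ∀ z : fixF Q, σ z ≠ z ↔ z ∈ Λ := by
  classical
  have hq : q.Prime := Fact.out
  -- the sets
  set ΛA : Finset α := Λ.map (Function.Embedding.subtype _) with hΛA
  have hΛAsub : ΛA ⊆ fixF Q := by
    intro z hz
    rw [hΛA, Finset.mem_map] at hz
    obtain ⟨w, -, rfl⟩ := hz
    exact w.2
  have hΛAcard : ΛA.card = Λ.card := Finset.card_map _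
  set Γ' : Finset α := fixF Q \ ΛA with hΓ'
  have hΓ'card : Γ'.card = t := by
    rw [hΓ', Finset.card_sdiff_of_subset hΛAsub, hΛAcard]
    omega
  have hmemΛA : ∀ z : fixF Q, (z : α) ∈ ΛA ↔ z ∈ Λ := by
    intro z
    rw [hΛA, Finset.mem_map]
    constructor
    · rintro ⟨w, hw, hwz⟩
      have : w = z := Subtype.ext hwz
      rwa [← this]
    · intro hz
      exact ⟨z, hz, rfl⟩
  -- the stabiliser `K'`
  set K' : Subgroup G := fixingSubgroup G (Γ' : Set α) with hK'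
  have hK'card : Nat.card K' = ℓ * δ := h.cardK Γ' hΓ'card
  have hQK' : Q ≤ K' := by
    intro g hg
    rw [hK', mem_fixingSubgroup_iff]
    intro y hy
    have hy' : y ∈ fixF Q := (Finset.mem_sdiff.mp hy).1
    exact mem_fixF.mp hy' g hg
  have hdvd : q ^ (a + 1) ∣ Nat.card K' := by
    rw [hK'card, pow_succ']
    exact Nat.mul_dvd_mul hqℓ hqa
  obtain ⟨Q₂, hQQ₂, hQ₂K', hQ₂N, hQ₂card⟩ := lwb_syl_grow K' q a hdvd Q hQK' hQ
  -- an element of `Q₂ \ Q`
  obtain ⟨g, hgQ₂, hgQ⟩ : ∃ g ∈ Q₂, g ∉ Q := by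
    by_contra hcon
    push Not at hcon
    have hle : Q₂ ≤ Q := hcon
    have h1 := Subgroup.card_le_of_le hle
    rw [hQ₂card, hQ] at h1
    have h2 : q ^ a < q ^ (a + 1) := Nat.pow_lt_pow_right hq.one_lt (Nat.lt_succ_self a)
    omega
  have hgN : g ∈ Subgroup.normalizer (Q : Set G) := hQ₂N hgQ₂
  have hgK' : g ∈ K' := hQ₂K' hgQ₂
  -- `g` moves every point of `ΛA`
  have hmove : ∀ z ∈ ΛA, g • z ≠ z := by
    intro z hz hgz
    have hzΦ : z ∈ fixF Q := hΛAsub hz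
    have hzΓ' : z ∉ Γ' := fun h' => (Finset.mem_sdiff.mp h').2 hz
    set S : Subgroup G := Q₂ ⊓ stabilizer G z with hS
    have hQS : Q ≤ S := le_inf hQQ₂ (fun k hk => mem_stabilizer_iff.mpr (mem_fixF.mp hzΦ k hk))
    have hgS : g ∈ S := ⟨hgQ₂, mem_stabilizer_iff.mpr hgz⟩
    have hSQ₂ : S ≤ Q₂ := inf_le_left
    have hScard : Nat.card S = q ^ (a + 1) := by
      have h1 : Nat.card S ∣ q ^ (a + 1) := hQ₂card ▸ Subgroup.card_dvd_of_le hSQ₂
      obtain ⟨j, hj, hSj⟩ := (Nat.dvd_prime_pow hq).mp h1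
      have h2 : q ^ a ∣ q ^ j := by
        rw [← hQ, ← hSj]
        exact Subgroup.card_dvd_of_le hQS
      have h3 : a ≤ j := (Nat.pow_dvd_pow_iff_le_right hq.one_lt).mp h2
      have h4 : j ≠ a := by
        rintro rfl
        have h5 : Q = S := Subgroup.eq_of_le_of_card_ge hQS (by rw [hSj, hQ])
        exact hgQ (h5 ▸ hgS)
      have h6 : j = a + 1 := by omega
      rw [hSj, h6]
    have hSeq : S = Q₂ := Subgroup.eq_of_le_of_card_ge hSQ₂ (by rw [hScard, hQ₂card])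
    have hQ₂D : Q₂ ≤ fixingSubgroup G ((insert z Γ' : Finset α) : Set α) := by
      intro k hk
      rw [mem_fixingSubgroup_iff]
      intro y hy
      rw [Finset.mem_coe, Finset.mem_insert] at hy
      rcases hy with rfl | hy
      · have h7 : k ∈ S := hSeq ▸ hk
        exact mem_stabilizer_iff.mp h7.2
      · exact (mem_fixingSubgroup_iff G).mp (hQ₂K' hk) y hy
    have hcardD := h.cardD (insert z Γ') (by rw [Finset.card_insert_of_notMem hzΓ', hΓ'card])
    have h8 := Subgroup.card_dvd_of_le hQ₂D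
    rw [hQ₂card, hcardD] at h8
    exact hδ h8
  -- the induced permutation
  obtain ⟨σ, hσ, hσz⟩ := exists_restrict (normalizer_fixF Q) hgN
  refine ⟨σ, hσ, fun z => ?_⟩
  have e : σ z ≠ z ↔ g • (z : α) ≠ z := by
    rw [Ne, Subtype.ext_iff, hσz]
  rw [e]
  constructor
  · intro hne
    by_contra hzΛ
    apply hne
    have hzΓ' : (z : α) ∈ Γ' := Finset.mem_sdiff.mpr ⟨z.2, fun h' => hzΛ ((hmemΛA z).mp h')⟩
    exact (mem_fixingSubgroup_iff G).mp hgK' _ hzΓ'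
  · intro hzΛ
    exact hmove _ ((hmemΛA z).mpr hzΛ)

end Cfsg.Agent.LWB
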