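import Mathlib
import Cfsg.Agent.LWB.Defs
import Cfsg.Agent.LWB.Basic

set_option autoImplicit false

/-! S0748 package P2b (file `Cfsg/Agent/LWB/Transfer.lean`): from `N_G(Q)` on `Fix(Q)` back to `G`.
Blueprint `notes/S0748_blueprint_helper6.md` §3. -/

namespace Cfsg.Agent.LWB

open MulAction

universe u

variable {α : Type u} [Fintype α] [DecidableEq α] {G : Subgroup (Equiv.Perm α)} {t : ℕ}

/-- the common core: if any two `(t+1)`-tuples of fixed points of `Q` are mapped to each other by an element of the group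
induced by `N_G(Q)` on `Fix(Q)`, then `G` is `(t+1)`-transitive. -/
theorem lwb_transfer_core (hh : IsPretransitive G (Set.powersetCard α (t + 1))) (Q : Subgroup G)
    (hΦ : t + 1 ≤ (fixF Q).card)
    (H : ∀ x y : Fin (t + 1) ↪ ↥(fixF Q), ∃ ν ∈ NQ Q, ∀ i, ν (x i) = y i) :
    IsMultiplyPretransitive G α (t + 1) := by
  obtain ⟨Δ, hsub, hΔ⟩ := Finset.exists_subset_card_eq hΦ
  apply lwb_trans_of_induced hh Δ hΔ
  intro σ
  let e : Δ ≃ Fin (t + 1) := Finset.equivFinOfCardEq hΔ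
  let x : Fin (t + 1) ↪ ↥(fixF Q) :=
    ⟨fun i => ⟨((e.symm i : Δ) : α), hsub (e.symm i).2⟩, by
      intro i j hij
      have h1 : ((e.symm i : Δ) : α) = ((e.symm j : Δ) : α) := congrArg (fun w : ↥(fixF Q) => (w : α)) hij
      exact e.symm.injective (Subtype.ext h1)⟩
  let y : Fin (t + 1) ↪ ↥(fixF Q) :=
    ⟨fun i => ⟨((σ (e.symm i) : Δ) : α), hsub (σ (e.symm i)).2⟩, by
      intro i j hij
      have h1 : ((σ (e.symm i) : Δ) : α) = ((σ (e.symm j) : Δ) : α) := congrArg (fun w : ↥(fixF Q) => (w : α)) hij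
      exact e.symm.injective (σ.injective (Subtype.ext h1))⟩
  obtain ⟨ν, hν, hxy⟩ := H x y
  obtain ⟨g, _, hg⟩ := mem_restrict.mp hν
  refine ⟨g, fun z => ?_⟩
  have h1 := hxy (e z)
  have h2 := hg (x (e z))
  rw [h1] at h2
  have ex : ((x (e z) : ↥(fixF Q)) : α) = (z : α) := by
    change ((e.symm (e z) : Δ) : α) = (z : α)
    rw [Equiv.symm_apply_apply]
  have ey : ((y (e z) : ↥(fixF Q)) : α) = ((σ z : Δ) : α) := by
    change ((σ (e.symm (e z)) : Δ) : α) = ((σ z : Δ) : α)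
    rw [Equiv.symm_apply_apply]
  rw [ex, ey] at h2
  exact h2.symm

theorem lwb_trans_of_NQ (hh : IsPretransitive G (Set.powersetCard α (t + 1))) (Q : Subgroup G)
    (hΦ : t + 1 ≤ (fixF Q).card) (hN : IsMultiplyPretransitive (NQ Q) (fixF Q) (t + 1)) :
    IsMultiplyPretransitive G α (t + 1) := by
  apply lwb_transfer_core hh Q hΦ
  intro x y
  obtain ⟨ν, hν⟩ := hN.exists_smul_eq x y
  refine ⟨ν.1, ν.2, fun i => ?_⟩
  rw [← hν]
  rfl

theorem lwb_trans_of_alt (hh : IsPretransitive G (Set.powersetCard α (t + 1))) (Q : Subgroup G)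
    (hΦ : t + 3 ≤ (fixF Q).card) (hN : alternatingGroup (fixF Q) ≤ NQ Q) :
    IsMultiplyPretransitive G α (t + 1) := by
  apply lwb_transfer_core hh Q (by omega)
  intro x y
  have hcard : Nat.card ↥(fixF Q) = (fixF Q).card := by
    rw [Nat.card_eq_fintype_card, Fintype.card_coe]
  have h1 := alternatingGroup.isMultiplyPretransitive ↥(fixF Q)
  have h2 : IsMultiplyPretransitive (alternatingGroup ↥(fixF Q)) ↥(fixF Q) (t + 1) :=
    MulAction.isMultiplyPretransitive_of_le (n := Nat.card ↥(fixF Q) - 2) (by rw [hcard]; omega) (Nat.sub_le _ _)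
  obtain ⟨a, ha⟩ := h2.exists_smul_eq x y
  refine ⟨a.1, hN a.2, fun i => ?_⟩
  rw [← ha]
  rfl

theorem lwb_trans_of_top (hh : IsPretransitive G (Set.powersetCard α (t + 1))) (Q : Subgroup G)
    (hΦ : t + 1 ≤ (fixF Q).card) (hN : NQ Q = ⊤) :
    IsMultiplyPretransitive G α (t + 1) := by
  apply lwb_transfer_core hh Q hΦ
  intro x y
  have h2 := Equiv.Perm.isMultiplyPretransitive ↥(fixF Q) (t + 1)
  obtain ⟨a, ha⟩ := h2.exists_smul_eq x y
  refine ⟨a, by rw [hN]; exact Subgroup.mem_top a, fun i => ?_⟩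
  rw [← ha]
  rfl

end Cfsg.Agent.LWB
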