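import Mathlib
import Cfsg.Agent.LWB.Defs
import Cfsg.Agent.LWB.Syl

set_option autoImplicit false
set_option linter.unusedSectionVars false

/-! S0748 package P2 (file `Cfsg/Agent/LWB/Witt.lean`): Witt's lemma for the normaliser of a Sylow
subgroup of a point stabiliser.  Blueprint `notes/S0748_blueprint_helper6.md` §2. -/

namespace Cfsg.Agent.LWB

open MulAction
open scoped Pointwise

universe u

variable {α : Type u} [Fintype α] [DecidableEq α] {G : Subgroup (Equiv.Perm α)} {t ℓ δ : ℕ}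

/-- the core of Witt's lemma: if `g` maps `E₁ ⊆ Fix(Q)` onto `E₂ ⊆ Fix(Q)` and `Q` is a Sylow subgroup of the
pointwise stabiliser of `E₂`, then some element of `N_G(Q)` agrees with `g` on `E₁`. -/
theorem lwb_witt_core (Q : Subgroup G) (q a : ℕ) [Fact q.Prime] (hQ : Nat.card Q = q ^ a)
    (E₁ E₂ : Finset α) (hE₁ : ∀ z ∈ E₁, z ∈ fixF Q) (hE₂ : ∀ z ∈ E₂, z ∈ fixF Q)
    (hD : ¬ q ^ (a + 1) ∣ Nat.card (fixingSubgroup G (E₂ : Set α)))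
    (g : G) (hg : ∀ z ∈ E₁, g • z ∈ E₂) (hg' : ∀ z ∈ E₂, g⁻¹ • z ∈ E₁) :
    ∃ σ ∈ NQ Q, ∀ z : fixF Q, (z : α) ∈ E₁ → ((σ z : fixF Q) : α) = g • (z : α) := by
  have hQD : Q ≤ fixingSubgroup G (E₂ : Set α) := by
    intro x hx
    rw [mem_fixingSubgroup_iff]
    intro z hz
    exact (mem_fixF.mp (hE₂ z (Finset.mem_coe.mp hz))) x hx
  obtain ⟨Q', hQ'⟩ : ∃ Q' : Subgroup G, Q' = Q.map (MulAut.conj g).toMonoidHom := ⟨_, rfl⟩
  have hQ'mem : ∀ w, w ∈ Q' ↔ g⁻¹ * w * g ∈ Q := by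
    intro w
    rw [hQ']
    constructor
    · rintro ⟨y, hy, rfl⟩
      have e : g⁻¹ * (MulAut.conj g).toMonoidHom y * g = y := by
        change g⁻¹ * (MulAut.conj g y) * g = y
        rw [MulAut.conj_apply]
        group
      rw [e]
      exact hy
    · intro hw
      refine ⟨g⁻¹ * w * g, hw, ?_⟩
      change MulAut.conj g (g⁻¹ * w * g) = w
      rw [MulAut.conj_apply]
      group
  have hQ'D : Q' ≤ fixingSubgroup G (E₂ : Set α) := by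
    intro w hw
    rw [hQ'mem] at hw
    rw [mem_fixingSubgroup_iff]
    intro z hz
    have hz' := hg' z (Finset.mem_coe.mp hz)
    have h1 : (g⁻¹ * w * g) • (g⁻¹ • z) = g⁻¹ • z := (mem_fixF.mp (hE₁ _ hz')) _ hw
    rw [mul_smul, mul_smul, smul_inv_smul, smul_left_cancel_iff] at h1
    exact h1
  have hcQ' : Nat.card Q' = q ^ a := by
    rw [← hQ, hQ']
    exact Nat.card_congr (Q.equivMapOfInjective _ (MulAut.conj g).injective).toEquiv.symm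
  obtain ⟨d, hdD, hd⟩ := lwb_syl_conj (fixingSubgroup G (E₂ : Set α)) q a hD Q' Q hQ'D hQD hcQ' hQ
  have hn : d * g ∈ Subgroup.normalizer (Q : Set G) := by
    rw [Subgroup.mem_normalizer_iff'']
    intro x
    rw [hd x, hQ'mem]
    have e : g⁻¹ * (d⁻¹ * x * d) * g = (d * g)⁻¹ * x * (d * g) := by group
    rw [e]
  obtain ⟨σ, hσ, hσz⟩ := exists_restrict (normalizer_fixF Q) hn
  refine ⟨σ, hσ, fun z hz => ?_⟩
  rw [hσz z, mul_smul]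
  rw [mem_fixingSubgroup_iff] at hdD
  exact hdD _ (Finset.mem_coe.mpr (hg z hz))

theorem lwb_witt_homog (h : Hyp2 G t ℓ δ) (q a : ℕ) [Fact q.Prime] (hδ : ¬ q ^ (a + 1) ∣ δ)
    (Q : Subgroup G) (hQ : Nat.card Q = q ^ a) :
    IsPretransitive (NQ Q) (Set.powersetCard (fixF Q) (t + 1)) := by
  constructor
  intro Δ₁ Δ₂
  obtain ⟨f, hf⟩ : ∃ f : (fixF Q) ↪ α, ∀ z, f z = (z : α) := ⟨Function.Embedding.subtype _, fun _ => rfl⟩
  obtain ⟨E₁, hE₁def⟩ : ∃ E : Finset α, E = (Δ₁ : Finset (fixF Q)).map f := ⟨_, rfl⟩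
  obtain ⟨E₂, hE₂def⟩ : ∃ E : Finset α, E = (Δ₂ : Finset (fixF Q)).map f := ⟨_, rfl⟩
  have hc₁ : E₁.card = t + 1 := by rw [hE₁def, Finset.card_map]; exact Δ₁.2
  have hc₂ : E₂.card = t + 1 := by rw [hE₂def, Finset.card_map]; exact Δ₂.2
  have hm₁ : ∀ z, z ∈ E₁ ↔ ∃ w : fixF Q, w ∈ (Δ₁ : Finset (fixF Q)) ∧ (w : α) = z := by
    intro z
    rw [hE₁def, Finset.mem_map]
    constructor
    · rintro ⟨w, hw, rfl⟩; exact ⟨w, hw, (hf w).symm⟩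
    · rintro ⟨w, hw, rfl⟩; exact ⟨w, hw, hf w⟩
  have hm₂ : ∀ z, z ∈ E₂ ↔ ∃ w : fixF Q, w ∈ (Δ₂ : Finset (fixF Q)) ∧ (w : α) = z := by
    intro z
    rw [hE₂def, Finset.mem_map]
    constructor
    · rintro ⟨w, hw, rfl⟩; exact ⟨w, hw, (hf w).symm⟩
    · rintro ⟨w, hw, rfl⟩; exact ⟨w, hw, hf w⟩
  have hE₁ : ∀ z ∈ E₁, z ∈ fixF Q := by
    intro z hz
    obtain ⟨w, -, rfl⟩ := (hm₁ z).mp hz
    exact w.2
  have hE₂ : ∀ z ∈ E₂, z ∈ fixF Q := by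
    intro z hz
    obtain ⟨w, -, rfl⟩ := (hm₂ z).mp hz
    exact w.2
  obtain ⟨γ, hγ⟩ := h.homog.exists_smul_eq (Set.powersetCard.ofCard hc₁) (Set.powersetCard.ofCard hc₂)
  have hγ' : γ • E₁ = E₂ := by
    have := congrArg Subtype.val hγ
    exact this
  have hg : ∀ z ∈ E₁, γ • z ∈ E₂ := by
    intro z hz
    rw [← hγ']
    exact Finset.smul_mem_smul_finset hz
  have hg' : ∀ z ∈ E₂, γ⁻¹ • z ∈ E₁ := by
    intro z hz
    rw [← hγ'] at hz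
    obtain ⟨y, hy, rfl⟩ := Finset.mem_smul_finset.mp hz
    rw [inv_smul_smul]
    exact hy
  have hD : ¬ q ^ (a + 1) ∣ Nat.card (fixingSubgroup G (E₂ : Set α)) := by
    rw [h.cardD E₂ hc₂]
    exact hδ
  obtain ⟨σ, hσ, hσz⟩ := lwb_witt_core Q q a hQ E₁ E₂ hE₁ hE₂ hD γ hg hg'
  refine ⟨⟨σ, hσ⟩, ?_⟩
  rw [Set.powersetCard.eq_iff_subset]
  intro w hw
  have hw' : w ∈ (⟨σ, hσ⟩ : NQ Q) • (Δ₁ : Finset (fixF Q)) := hw
  obtain ⟨w₀, hw₀, rfl⟩ := Finset.mem_smul_finset.mp hw'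
  have h1 : (w₀ : α) ∈ E₁ := (hm₁ _).mpr ⟨w₀, hw₀, rfl⟩
  have h2 : ((σ w₀ : fixF Q) : α) ∈ E₂ := by
    rw [hσz w₀ h1]
    exact hg _ h1
  obtain ⟨w', hw', hw'eq⟩ := (hm₂ _).mp h2
  have h3 : w' = σ w₀ := Subtype.ext hw'eq
  change σ w₀ ∈ (Δ₂ : Finset (fixF Q))
  rw [← h3]
  exact hw'

theorem lwb_witt_trans (h : Hyp2 G t ℓ δ) (q a : ℕ) [Fact q.Prime] (hδ : ¬ q ^ (a + 1) ∣ ℓ * δ)
    (Q : Subgroup G) (hQ : Nat.card Q = q ^ a) :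
    IsMultiplyPretransitive (NQ Q) (fixF Q) t := by
  constructor
  intro x y
  obtain ⟨f, hf⟩ : ∃ f : (fixF Q) ↪ α, ∀ z, f z = (z : α) := ⟨Function.Embedding.subtype _, fun _ => rfl⟩
  obtain ⟨E₁, hE₁def⟩ : ∃ E : Finset α, E = Finset.univ.map (x.trans f) := ⟨_, rfl⟩
  obtain ⟨E₂, hE₂def⟩ : ∃ E : Finset α, E = Finset.univ.map (y.trans f) := ⟨_, rfl⟩
  have hc₂ : E₂.card = t := by rw [hE₂def, Finset.card_map, Finset.card_univ, Fintype.card_fin]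
  have hm₁ : ∀ z, z ∈ E₁ ↔ ∃ i, ((x i : fixF Q) : α) = z := by
    intro z
    rw [hE₁def, Finset.mem_map]
    constructor
    · rintro ⟨i, -, rfl⟩; exact ⟨i, (hf _).symm⟩
    · rintro ⟨i, rfl⟩; exact ⟨i, Finset.mem_univ _, hf _⟩
  have hm₂ : ∀ z, z ∈ E₂ ↔ ∃ i, ((y i : fixF Q) : α) = z := by
    intro z
    rw [hE₂def, Finset.mem_map]
    constructor
    · rintro ⟨i, -, rfl⟩; exact ⟨i, (hf _).symm⟩
    · rintro ⟨i, rfl⟩; exact ⟨i, Finset.mem_univ _, hf _⟩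
  have hE₁ : ∀ z ∈ E₁, z ∈ fixF Q := by
    intro z hz
    obtain ⟨i, rfl⟩ := (hm₁ z).mp hz
    exact (x i).2
  have hE₂ : ∀ z ∈ E₂, z ∈ fixF Q := by
    intro z hz
    obtain ⟨i, rfl⟩ := (hm₂ z).mp hz
    exact (y i).2
  obtain ⟨γ, hγ⟩ := h.trans.exists_smul_eq (x.trans f) (y.trans f)
  have hγi : ∀ i, γ • ((x i : fixF Q) : α) = ((y i : fixF Q) : α) := by
    intro i
    have := congrArg (fun e : Fin t ↪ α => e i) hγ
    simp only [Function.Embedding.smul_apply, Function.Embedding.trans_apply, hf] at this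
    exact this
  have hg : ∀ z ∈ E₁, γ • z ∈ E₂ := by
    intro z hz
    obtain ⟨i, rfl⟩ := (hm₁ z).mp hz
    exact (hm₂ _).mpr ⟨i, (hγi i).symm⟩
  have hg' : ∀ z ∈ E₂, γ⁻¹ • z ∈ E₁ := by
    intro z hz
    obtain ⟨i, rfl⟩ := (hm₂ z).mp hz
    rw [← hγi i, inv_smul_smul]
    exact (hm₁ _).mpr ⟨i, rfl⟩
  have hD : ¬ q ^ (a + 1) ∣ Nat.card (fixingSubgroup G (E₂ : Set α)) := by
    rw [h.cardK E₂ hc₂]
    exact hδ
  obtain ⟨σ, hσ, hσz⟩ := lwb_witt_core Q q a hQ E₁ E₂ hE₁ hE₂ hD γ hg hg'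
  refine ⟨⟨σ, hσ⟩, ?_⟩
  ext i
  change ((σ (x i) : fixF Q) : α) = ((y i : fixF Q) : α)
  rw [hσz (x i) ((hm₁ _).mpr ⟨i, rfl⟩), hγi i]

end Cfsg.Agent.LWB
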