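import Mathlib
import Cfsg.Agent.LWB.Defs
import Cfsg.Agent.LWB.Basic
import Cfsg.Agent.LWB.Syl
import Cfsg.Agent.LWB.Witt
import Cfsg.Agent.LWB.Transfer
import Cfsg.Agent.LWB.Small
import Cfsg.Agent.LWB.PermS

set_option autoImplicit false

/-! S0748 package P5 (file `Cfsg/Agent/LWB/CaseB.lean`): no prime divides both `ℓ` and `δ`.
Blueprint `notes/S0748_blueprint_helper6.md` §6. -/

namespace Cfsg.Agent.LWB

open MulAction

universe u

variable {α : Type u} [Fintype α] [DecidableEq α] {G : Subgroup (Equiv.Perm α)} {t ℓ δ : ℕ}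

/-- a nontrivial subgroup does not fix every point -/
theorem lwb_caseB_fix_lt (Q : Subgroup G) (hQ : 1 < Nat.card Q) :
    (fixF Q).card < Fintype.card α := by
  rw [← Finset.card_univ]
  apply Finset.card_lt_card
  rw [Finset.ssubset_univ_iff]
  intro hall
  have hbot : Q = ⊥ := by
    rw [Subgroup.eq_bot_iff_forall]
    intro g hg
    apply Subtype.ext
    apply Equiv.ext
    intro z
    have hz : z ∈ fixF Q := by rw [hall]; exact Finset.mem_univ z
    exact mem_fixF.1 hz g hg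
  rw [hbot, Subgroup.card_bot] at hQ
  exact lt_irrefl _ hQ

/-- the fixed-point set of a nontrivial `q`-subgroup `Q`, Sylow in a `(t+1)`-point stabiliser,
has at most `2t + 1` points (induction hypothesis + Witt + transfer) -/
theorem lwb_fix_le (h : Hyp2 G t ℓ δ) (ih : IH.{u} (Fintype.card α) t) (q a : ℕ) [Fact q.Prime]
    (ha : 1 ≤ a) (hδ : ¬ q ^ (a + 1) ∣ δ) (Q : Subgroup G) (hQ : Nat.card Q = q ^ a) :
    (fixF Q).card ≤ 2 * t + 1 := by
  by_contra hcon
  have hq : q.Prime := Fact.out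
  have h1 : 1 < Nat.card Q := by
    rw [hQ]
    exact Nat.one_lt_pow (by omega) hq.one_lt
  have hlt := lwb_caseB_fix_lt Q h1
  have hN : IsMultiplyPretransitive (NQ Q) (fixF Q) (t + 1) :=
    ih (fixF Q) (NQ Q) (by rw [Fintype.card_coe]; exact hlt) (by rw [Fintype.card_coe]; omega)
      (lwb_witt_homog h q a hδ Q hQ)
  exact h.ntrans (lwb_trans_of_NQ h.homog Q (by omega) hN)

theorem lwb_caseB (h : Hyp2 G t ℓ δ) (ih : IH.{u} (Fintype.card α) t) (q : ℕ) [Fact q.Prime]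
    (hqδ : q ∣ δ) (hqℓ : q ∣ ℓ) : False := by
  have hn := h.hn
  have ht := h.ht
  obtain ⟨Δ, -, hΔ⟩ := Finset.exists_subset_card_eq (s := (Finset.univ : Finset α)) (n := t + 1)
    (by rw [Finset.card_univ]; omega)
  obtain ⟨Q, a, hQD, hQ, hqa, hδ⟩ := lwb_syl_exists (fixingSubgroup G (Δ : Set α)) q
  rw [h.cardD Δ hΔ] at hqa hδ
  have ha : 1 ≤ a := by
    rcases Nat.eq_zero_or_pos a with rfl | ha
    · exact absurd (by simpa using hqδ) hδ
    · exact ha
  have hsub : Δ ⊆ fixF Q := by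
    intro z hz
    rw [mem_fixF]
    intro g hg
    exact (mem_fixingSubgroup_iff G).1 (hQD hg) z (by simpa using hz)
  have hge : t + 1 ≤ (fixF Q).card := by
    rw [← hΔ]; exact Finset.card_le_card hsub
  have hle := lwb_fix_le h ih q a ha hδ Q hQ
  have hsmall : ∀ Λ : Finset (fixF Q), Λ.card = (fixF Q).card - t →
      ∃ σ ∈ NQ Q, ∀ z : fixF Q, σ z ≠ z ↔ z ∈ Λ := by
    intro Λ hΛ
    exact lwb_small h q a hqℓ hqa hδ Q hQ Λ (by omega)
  have hcardΦ : Fintype.card (fixF Q) = (fixF Q).card := Fintype.card_coe _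
  rcases Nat.lt_or_ge ((fixF Q).card - t) 2 with hs | hs
  · -- `s = 1`
    have hs1 : (fixF Q).card - t = 1 := by omega
    obtain ⟨z, hz⟩ : ∃ z, z ∈ fixF Q := by
      apply Finset.card_pos.1
      omega
    obtain ⟨σ, -, hσ⟩ := hsmall {⟨z, hz⟩} (by rw [Finset.card_singleton, hs1])
    have h1 : σ ⟨z, hz⟩ ≠ ⟨z, hz⟩ := (hσ _).2 (Finset.mem_singleton_self _)
    have h2 : σ (σ ⟨z, hz⟩) ≠ σ ⟨z, hz⟩ := fun hcon => h1 (σ.injective hcon)
    have h3 := (hσ _).1 h2
    rw [Finset.mem_singleton] at h3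
    exact h1 h3
  · rcases Nat.lt_or_ge ((fixF Q).card - t) 3 with hs3 | hs3
    · -- `s = 2`
      have hs2 : (fixF Q).card - t = 2 := by omega
      have htop : NQ Q = ⊤ := lwb_perm_top (NQ Q) (fun Λ hΛ => hsmall Λ (by rw [hΛ, hs2]))
      exact h.ntrans (lwb_trans_of_top h.homog Q hge htop)
    · -- `s ≥ 3`
      have halt : alternatingGroup (fixF Q) ≤ NQ Q :=
        lwb_perm_alt (NQ Q) ((fixF Q).card - t) hs3 (by rw [hcardΦ]; omega)
          (fun Λ hΛ => hsmall Λ hΛ)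
      exact h.ntrans (lwb_trans_of_alt h.homog Q (by omega) halt)

end Cfsg.Agent.LWB
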