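import Mathlib
import Cfsg.Agent.LWB.Defs
import Cfsg.Agent.LWB.Basic
import Cfsg.Agent.LWB.Syl
import Cfsg.Agent.LWB.Witt
import Cfsg.Agent.LWB.Transfer
import Cfsg.Agent.LWB.CaseB
import Cfsg.Agent.LW.Kantor
import Cfsg.Agent.LW.Main

set_option autoImplicit false

/-! S0748 package P6 (file `Cfsg/Agent/LWB/CaseA.lean`): a prime `q ∣ δ`, `q ∤ ℓ` forces exactly two
orbits.  Blueprint `notes/S0748_blueprint_helper6.md` §7. -/

namespace Cfsg.Agent.LWB

open MulAction

universe u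

/-- homogeneity passes to the complementary degree. -/
theorem lwb_casea_compl {M β : Type*} [Group M] [MulAction M β] [Fintype β] [DecidableEq β] {n m : ℕ}
    (hm : m + n = Fintype.card β) (h : IsPretransitive M (Set.powersetCard β n)) :
    IsPretransitive M (Set.powersetCard β m) :=
  IsPretransitive.of_surjective_map (Set.powersetCard.mulActionHom_compl_bijective M β hm).2 h

variable {α : Type u} [Fintype α] [DecidableEq α] {G : Subgroup (Equiv.Perm α)} {t ℓ δ : ℕ}

/-- a `q`-subgroup `Q` of `K = G_(Γ)` fixes a point in every `K`-orbit off `Γ` when `q ∤ ℓ`. -/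
theorem lwb_casea_fixed (h : Hyp2 G t ℓ δ) (q : ℕ) [Fact q.Prime] (hqℓ : ¬ q ∣ ℓ) (Γ : Finset α)
    (hΓ : Γ.card = t) (Q : Subgroup G) (hQK : Q ≤ fixingSubgroup G (Γ : Set α)) (hQ : IsPGroup q Q)
    (x : α) (hx : x ∉ Γ) :
    ∃ z, z ∈ fixF Q ∧ z ∉ Γ ∧ ∃ k ∈ fixingSubgroup G (Γ : Set α), k • x = z := by
  let S : SubMulAction ↥Q α :=
    { carrier := orbit (fixingSubgroup G (Γ : Set α)) x
      smul_mem' := by
        rintro g z ⟨k, rfl⟩
        refine ⟨⟨(g : G), hQK g.2⟩ * k, ?_⟩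
        change (⟨(g : G), hQK g.2⟩ * k) • x = g • (k • x)
        rw [mul_smul]
        rfl }
  have hcard : Nat.card ↥S = ℓ := by
    rw [← lwb_orbit_card h Γ hΓ x hx]
    exact Nat.card_congr (Equiv.subtypeEquivRight (fun z => Iff.rfl))
  have : Finite ↥S := Finite.of_injective (fun z : ↥S => (z : α)) Subtype.val_injective
  obtain ⟨⟨z, hzS⟩, hzfix⟩ := hQ.nonempty_fixed_point_of_prime_not_dvd_card ↥S (by rw [hcard]; exact hqℓ)
  obtain ⟨k, hk⟩ : ∃ k : fixingSubgroup G (Γ : Set α), k • x = z := hzS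
  refine ⟨z, ?_, ?_, (k : G), k.2, hk⟩
  · rw [mem_fixF]
    intro g hg
    have := hzfix ⟨g, hg⟩
    exact congrArg Subtype.val this
  · intro hzΓ
    apply hx
    have h1 : (k : G) • z = z := (mem_fixingSubgroup_iff G).1 k.2 z hzΓ
    have h2 : (k : G) • x = z := hk
    have h3 : x = z := by
      have := h1.trans h2.symm
      exact (smul_left_cancel _ this).symm
    rw [h3]
    exact hzΓ

theorem lwb_caseA (h : Hyp2 G t ℓ δ) (ih : IH.{u} (Fintype.card α) t) (q : ℕ) [Fact q.Prime]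
    (hqδ : q ∣ δ) (hqℓ : ¬ q ∣ ℓ) : Fintype.card α - t = 2 * ℓ := by
  have hq : q.Prime := Fact.out
  have hn := h.hn
  have ht := h.ht
  -- a `(t+1)`-set `Δ` and a `t`-subset `Γ`
  obtain ⟨Δ, -, hΔ⟩ := Finset.exists_subset_card_eq (s := (Finset.univ : Finset α)) (n := t + 1)
    (by rw [Finset.card_univ]; omega)
  obtain ⟨Γ, hΓΔ, hΓ⟩ := Finset.exists_subset_card_eq (s := Δ) (n := t) (by omega)
  -- a Sylow `q`-subgroup of `D`
  obtain ⟨Q, a, hQD, hQc, hadvd, hanot⟩ := lwb_syl_exists (fixingSubgroup G (Δ : Set α)) q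
  rw [h.cardD Δ hΔ] at hadvd hanot
  have ha : 1 ≤ a := by
    by_contra h0
    have : a = 0 := by omega
    apply hanot
    rw [this, zero_add, pow_one]
    exact hqδ
  have hanot2 : ¬ q ^ (a + 1) ∣ ℓ * δ := by
    intro hd
    apply hanot
    have hcop : (q ^ (a + 1)).Coprime ℓ :=
      Nat.Coprime.pow_left _ ((Nat.Prime.coprime_iff_not_dvd hq).2 hqℓ)
    exact hcop.dvd_of_dvd_mul_left hd
  have hQp : IsPGroup q Q := IsPGroup.of_card hQc
  have hDK : fixingSubgroup G (Δ : Set α) ≤ fixingSubgroup G (Γ : Set α) := by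
    intro g hg
    rw [mem_fixingSubgroup_iff] at hg ⊢
    exact fun z hz => hg z (hΓΔ hz)
  have hQK : Q ≤ fixingSubgroup G (Γ : Set α) := hQD.trans hDK
  have hΔΦ : Δ ⊆ fixF Q := by
    intro z hz
    rw [mem_fixF]
    intro g hg
    exact (mem_fixingSubgroup_iff G).1 (hQD hg) z hz
  have hΓΦ : Γ ⊆ fixF Q := hΓΔ.trans hΔΦ
  have hΦle : (fixF Q).card ≤ 2 * t + 1 := lwb_fix_le h ih q a ha hanot Q hQc
  -- two orbits
  obtain ⟨x, y, hx, hy, hxy⟩ := lwb_two_orbits h Γ hΓ
  obtain ⟨x', hx'Φ, hx'Γ, kx, hkx, hkx'⟩ := lwb_casea_fixed h q hqℓ Γ hΓ Q hQK hQp x hx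
  obtain ⟨y', hy'Φ, hy'Γ, ky, hky, hky'⟩ := lwb_casea_fixed h q hqℓ Γ hΓ Q hQK hQp y hy
  have hne : ∀ {u v u' v' : α} {ku kv : G}, (∀ g ∈ fixingSubgroup G (Γ : Set α), g • u ≠ v) →
      ku ∈ fixingSubgroup G (Γ : Set α) → kv ∈ fixingSubgroup G (Γ : Set α) → ku • u = u' → kv • v = v' →
      u' ≠ v' := by
    intro u v u' v' ku kv huv hku hkv e1 e2 e
    apply huv (kv⁻¹ * ku) (mul_mem (inv_mem hkv) hku)
    rw [mul_smul, e1, e, ← e2, inv_smul_smul]
  have hx'y' : x' ≠ y' := hne hxy hkx hky hkx' hky'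
  have hΦge : t + 2 ≤ (fixF Q).card := by
    have hsub : insert x' (insert y' Γ) ⊆ fixF Q := by
      intro z hz
      rw [Finset.mem_insert, Finset.mem_insert] at hz
      rcases hz with rfl | rfl | hz
      · exact hx'Φ
      · exact hy'Φ
      · exact hΓΦ hz
    have hc : (insert x' (insert y' Γ)).card = t + 2 := by
      rw [Finset.card_insert_of_notMem, Finset.card_insert_of_notMem hy'Γ, hΓ]
      rw [Finset.mem_insert]
      rintro (e | e)
      · exact hx'y' e
      · exact hx'Γ e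
    rw [← hc]
    exact Finset.card_le_card hsub
  -- the group induced by `N_G(Q)` on `Φ`
  have hcardΦ : Fintype.card ↥(fixF Q) = (fixF Q).card := Fintype.card_coe _
  have hom1 : IsPretransitive (NQ Q) (Set.powersetCard ↥(fixF Q) (t + 1)) :=
    lwb_witt_homog h q a hanot Q hQc
  have hom2 : IsPretransitive (NQ Q) (Set.powersetCard ↥(fixF Q) (t + 2)) := by
    have h1 : IsPretransitive (NQ Q) (Set.powersetCard ↥(fixF Q) ((fixF Q).card - (t + 1))) :=
      lwb_casea_compl (by rw [hcardΦ]; omega) hom1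
    have h2 : IsPretransitive (NQ Q) (Set.powersetCard ↥(fixF Q) ((fixF Q).card - (t + 1) - 1)) :=
      LW.lw_kantor (by omega) (by rw [hcardΦ]; omega) h1
    exact lwb_casea_compl (by rw [hcardΦ]; omega) h2
  have hyp : LW.Hyp (NQ Q) ↥(fixF Q) t :=
    { ht1 := by omega
      hn := by rw [hcardΦ]; exact hΦge
      trans := lwb_witt_trans h q a hanot2 Q hQc
      ntrans := fun hN => h.ntrans (lwb_trans_of_NQ h.homog Q (by omega) hN)
      homog1 := hom1
      homog2 := hom2 }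
  have hΦeq : (fixF Q).card = t + 2 := by
    rcases LW.lw_main hyp with h1 | ⟨_, h1, _⟩ | ⟨_, h1, _⟩ | ⟨_, h1, _⟩
    · rw [← hcardΦ]; exact h1
    · omega
    · omega
    · omega
  -- a third orbit would give a third fixed point
  by_contra hcon
  have hex : ∃ z, z ∉ Γ ∧ (∀ g ∈ fixingSubgroup G (Γ : Set α), g • x ≠ z) ∧
      ∀ g ∈ fixingSubgroup G (Γ : Set α), g • y ≠ z := by
    by_contra hno
    push Not at hno
    apply hcon
    have hcover : ((Γ : Set α))ᶜ = orbit (fixingSubgroup G (Γ : Set α)) x ∪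
        orbit (fixingSubgroup G (Γ : Set α)) y := by
      ext z
      constructor
      · intro hz
        have hz' : z ∉ Γ := fun hh => hz (Finset.mem_coe.2 hh)
        by_cases hzx : ∀ g ∈ fixingSubgroup G (Γ : Set α), g • x ≠ z
        · obtain ⟨g, hg, e⟩ := hno z hz' hzx
          exact Or.inr ⟨⟨g, hg⟩, e⟩
        · push Not at hzx
          obtain ⟨g, hg, e⟩ := hzx
          exact Or.inl ⟨⟨g, hg⟩, e⟩
      · rintro (⟨k, rfl⟩ | ⟨k, rfl⟩) hz
        · apply hx
          have h1 : (k : G) • ((k : G) • x) = (k : G) • x :=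
            (mem_fixingSubgroup_iff G).1 k.2 _ (Finset.mem_coe.1 hz)
          have h3 : (k : G) • x = x := smul_left_cancel _ h1
          have hz' : (k : G) • x ∈ Γ := Finset.mem_coe.1 hz
          rwa [h3] at hz'
        · apply hy
          have h1 : (k : G) • ((k : G) • y) = (k : G) • y :=
            (mem_fixingSubgroup_iff G).1 k.2 _ (Finset.mem_coe.1 hz)
          have h3 : (k : G) • y = y := smul_left_cancel _ h1
          have hz' : (k : G) • y ∈ Γ := Finset.mem_coe.1 hz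
          rwa [h3] at hz'
    have hdisj : Disjoint (orbit (fixingSubgroup G (Γ : Set α)) x) (orbit (fixingSubgroup G (Γ : Set α)) y) := by
      rw [Set.disjoint_left]
      rintro z ⟨k₁, rfl⟩ ⟨k₂, e⟩
      apply hxy ((k₂ : G)⁻¹ * (k₁ : G)) (mul_mem (inv_mem k₂.2) k₁.2)
      rw [mul_smul]
      have e' : (k₂ : G) • y = (k₁ : G) • x := e
      rw [← e', inv_smul_smul]
    have c1 : ((Γ : Set α))ᶜ.ncard = Fintype.card α - t := by
      rw [Set.ncard_compl, Set.ncard_coe_finset, hΓ, Nat.card_eq_fintype_card]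
    have c2 : (orbit (fixingSubgroup G (Γ : Set α)) x).ncard = ℓ := by
      rw [← _root_.Nat.card_coe_set_eq]
      exact lwb_orbit_card h Γ hΓ x hx
    have c3 : (orbit (fixingSubgroup G (Γ : Set α)) y).ncard = ℓ := by
      rw [← _root_.Nat.card_coe_set_eq]
      exact lwb_orbit_card h Γ hΓ y hy
    rw [← c1, hcover, Set.ncard_union_eq hdisj, c2, c3]
    ring
  obtain ⟨z, hz, hzx, hzy⟩ := hex
  obtain ⟨z', hz'Φ, hz'Γ, kz, hkz, hkz'⟩ := lwb_casea_fixed h q hqℓ Γ hΓ Q hQK hQp z hz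
  have hx'z' : x' ≠ z' := hne hzx hkx hkz hkx' hkz'
  have hy'z' : y' ≠ z' := hne hzy hky hkz hky' hkz'
  have hsub : insert z' (insert x' (insert y' Γ)) ⊆ fixF Q := by
    intro w hw
    rw [Finset.mem_insert, Finset.mem_insert, Finset.mem_insert] at hw
    rcases hw with rfl | rfl | rfl | hw
    · exact hz'Φ
    · exact hx'Φ
    · exact hy'Φ
    · exact hΓΦ hw
  have hc : (insert z' (insert x' (insert y' Γ))).card = t + 3 := by
    rw [Finset.card_insert_of_notMem, Finset.card_insert_of_notMem, Finset.card_insert_of_notMem hy'Γ, hΓ]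
    · rw [Finset.mem_insert]
      rintro (e | e)
      · exact hx'y' e
      · exact hx'Γ e
    · rw [Finset.mem_insert, Finset.mem_insert]
      rintro (e | e | e)
      · exact hx'z' e.symm
      · exact hy'z' e.symm
      · exact hz'Γ e
  have := Finset.card_le_card hsub
  omega

end Cfsg.Agent.LWB
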