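import Mathlib
import Cfsg.Agent.LWB.Defs
import Cfsg.Agent.LWB.Basic
import Cfsg.Agent.LW.Trans

set_option autoImplicit false

/-! S0748 package P8 (file `Cfsg/Agent/LWB/OddC.lean`): with exactly two orbits the `(t-1)`-point
stabilisers have odd order.  Blueprint `notes/S0748_blueprint_helper6.md` §9a. -/

namespace Cfsg.Agent.LWB

open MulAction

universe u

variable {α : Type u} [Fintype α] [DecidableEq α] {G : Subgroup (Equiv.Perm α)} {t ℓ δ : ℕ}

omit [DecidableEq α] in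
/-- the pointwise stabiliser of a `(t-1)`-set in a `t`-transitive group is transitive off the set -/
theorem lwb_oddc_trans (htr : IsMultiplyPretransitive G α t) (Γ₁ : Finset α)
    (hΓ₁ : Γ₁.card + 1 = t) (x y : α) (hx : x ∉ Γ₁) (hy : y ∉ Γ₁) :
    ∃ g ∈ fixingSubgroup G (Γ₁ : Set α), g • x = y := by
  have h1 : IsMultiplyPretransitive (fixingSubgroup G (Γ₁ : Set α))
      (SubMulAction.ofFixingSubgroup G (Γ₁ : Set α)) 1 :=
    SubMulAction.ofFixingSubgroup.isMultiplyPretransitive G (Hn := htr) (Γ₁ : Set α)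
      (by rw [Set.ncard_coe_finset]; exact hΓ₁)
  rw [is_one_pretransitive_iff] at h1
  obtain ⟨g, hg⟩ := h1.exists_smul_eq
    ⟨x, (SubMulAction.mem_ofFixingSubgroup_iff G).2 (by simpa using hx)⟩
    ⟨y, (SubMulAction.mem_ofFixingSubgroup_iff G).2 (by simpa using hy)⟩
  exact ⟨g.1, g.2, congrArg Subtype.val hg⟩

/-- all `(t-1)`-point stabilisers of a `t`-transitive group have the same order -/
theorem lwb_oddc_card_eq (htr : IsMultiplyPretransitive G α t) (hn : t ≤ Fintype.card α)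
    (Γ Γ' : Finset α) (hΓ : Γ.card + 1 = t) (hΓ' : Γ'.card + 1 = t) :
    Nat.card (fixingSubgroup G (Γ : Set α)) = Nat.card (fixingSubgroup G (Γ' : Set α)) := by
  have htr' : IsMultiplyPretransitive G α (t - 1) :=
    isMultiplyPretransitive_of_le (n := t) (by omega) (by rw [Nat.card_eq_fintype_card]; exact hn)
  exact lwb_basic_cardK_eq htr' (by omega) Γ Γ' (by omega) (by omega)

/-- an even-order subgroup contains an involution -/
theorem lwb_oddc_exists_invol {H : Type*} [Group H] [Finite H] (K : Subgroup H)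
    (hK : Even (Nat.card K)) : ∃ u : H, u ∈ K ∧ orderOf u = 2 := by
  have : Fact (Nat.Prime 2) := ⟨Nat.prime_two⟩
  obtain ⟨u, hu⟩ := exists_prime_orderOf_dvd_card' (G := K) 2 hK.two_dvd
  exact ⟨u, u.2, by rw [← hu, Subgroup.orderOf_coe]⟩

/-- with exactly two orbits and an even `(t-1)`-point stabiliser `M`, every pair of points off the
`(t-1)`-set is swapped by an element of `M` -/
theorem lwb_oddc_swap (h : Hyp2 G t ℓ δ) (hr : Fintype.card α - t = 2 * ℓ) (Γ₁ : Finset α)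
    (hΓ₁ : Γ₁.card + 1 = t) (hev : Even (Nat.card (fixingSubgroup G (Γ₁ : Set α))))
    (x y : α) (hx : x ∉ Γ₁) (hy : y ∉ Γ₁) (hxy : x ≠ y) :
    ∃ g ∈ fixingSubgroup G (Γ₁ : Set α), g • x = y ∧ g • y = x := by
  classical
  set M := fixingSubgroup G (Γ₁ : Set α) with hM
  have hfix : ∀ g ∈ M, ∀ w ∈ Γ₁, g • w = w := fun g hg w hw =>
    (mem_fixingSubgroup_iff G).1 hg w (by simpa using hw)
  have hout : ∀ g ∈ M, ∀ z, z ∉ Γ₁ → g • z ∉ Γ₁ := by
    intro g hg z hz hmem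
    have h1 := hfix g hg _ hmem
    exact hz (smul_left_cancel g h1 ▸ hmem)
  -- an involution of `M` and a point it moves
  obtain ⟨u, huM, hu2⟩ := lwb_oddc_exists_invol M hev
  have hu_sq : u * u = 1 := by
    have := pow_orderOf_eq_one u
    rwa [hu2, pow_two] at this
  have hu_ne : u ≠ 1 := by
    intro h1
    rw [h1, orderOf_one] at hu2
    omega
  obtain ⟨a, ha⟩ : ∃ a : α, u • a ≠ a := by
    by_contra hcon
    push Not at hcon
    apply hu_ne
    apply Subtype.ext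
    apply Equiv.ext
    intro z
    exact hcon z
  obtain ⟨b, hb⟩ : ∃ b, b = u • a := ⟨_, rfl⟩
  have hub : u • b = a := by rw [hb, smul_smul, hu_sq, one_smul]
  have haΓ : a ∉ Γ₁ := fun hmem => ha (hfix u huM a hmem)
  have hbΓ : b ∉ Γ₁ := hb ▸ hout u huM a haΓ
  have hba : b ≠ a := hb ▸ ha
  -- the `t`-point stabiliser `K = M_a`
  have hΓc : (insert a Γ₁).card = t := by rw [Finset.card_insert_of_notMem haΓ]; exact hΓ₁
  set K := fixingSubgroup G ((insert a Γ₁ : Finset α) : Set α) with hK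
  have hKM : ∀ k, k ∈ K ↔ k ∈ M ∧ k • a = a := by
    intro k
    rw [hK, hM, mem_fixingSubgroup_iff, mem_fixingSubgroup_iff]
    constructor
    · intro hk
      exact ⟨fun w hw => hk w (by
        simp only [Finset.coe_insert, Set.mem_insert_iff]; exact Or.inr hw), hk a (by simp)⟩
    · rintro ⟨hk1, hk2⟩ w hw
      simp only [Finset.coe_insert, Set.mem_insert_iff] at hw
      rcases hw with rfl | hw
      · exact hk2
      · exact hk1 w hw
  have hnotΓ : ∀ z, z ∉ Γ₁ → z ≠ a → z ∉ insert a Γ₁ := by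
    intro z hz hza hmem
    rcases Finset.mem_insert.1 hmem with h1 | h1
    · exact hza h1
    · exact hz h1
  have Rsymm : ∀ z w : α, (∃ k ∈ K, k • z = w) → ∃ k ∈ K, k • w = z := by
    rintro z w ⟨k, hk, rfl⟩
    exact ⟨k⁻¹, K.inv_mem hk, inv_smul_smul k z⟩
  have Rtrans : ∀ z w v : α, (∃ k ∈ K, k • z = w) → (∃ k ∈ K, k • w = v) → ∃ k ∈ K, k • z = v := by
    rintro z w v ⟨k, hk, rfl⟩ ⟨k', hk', rfl⟩
    exact ⟨k' * k, K.mul_mem hk' hk, mul_smul k' k z⟩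
  -- exactly two `K`-orbits off `Γ₁ ∪ {a}`
  obtain ⟨x', y', hx', hy', hx'y'⟩ := lwb_two_orbits h _ hΓc
  have hcover := lwb_orbit_cover h hr _ hΓc x' y' hx' hy' hx'y'
  have hbΓ' : b ∉ insert a Γ₁ := hnotΓ b hbΓ hba
  have hsame : ∀ z₁ z₂ : α, z₁ ∉ insert a Γ₁ → z₂ ∉ insert a Γ₁ → ¬ (∃ k ∈ K, k • b = z₁) →
      ¬ (∃ k ∈ K, k • b = z₂) → ∃ k ∈ K, k • z₁ = z₂ := by
    intro z₁ z₂ hz₁ hz₂ hn₁ hn₂
    rcases hcover b hbΓ' with hb1 | hb1
    · have h1 : ∃ k ∈ K, k • y' = z₁ := by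
        rcases hcover z₁ hz₁ with h2 | h2
        · exact absurd (Rtrans _ _ _ (Rsymm _ _ hb1) h2) hn₁
        · exact h2
      have h2 : ∃ k ∈ K, k • y' = z₂ := by
        rcases hcover z₂ hz₂ with h2 | h2
        · exact absurd (Rtrans _ _ _ (Rsymm _ _ hb1) h2) hn₂
        · exact h2
      exact Rtrans _ _ _ (Rsymm _ _ h1) h2
    · have h1 : ∃ k ∈ K, k • x' = z₁ := by
        rcases hcover z₁ hz₁ with h2 | h2
        · exact h2
        · exact absurd (Rtrans _ _ _ (Rsymm _ _ hb1) h2) hn₁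
      have h2 : ∃ k ∈ K, k • x' = z₂ := by
        rcases hcover z₂ hz₂ with h2 | h2
        · exact h2
        · exact absurd (Rtrans _ _ _ (Rsymm _ _ hb1) h2) hn₂
      exact Rtrans _ _ _ (Rsymm _ _ h1) h2
  -- every `y ≠ a` off `Γ₁` is swapped with `a`
  have claimA : ∀ y : α, y ∉ Γ₁ → y ≠ a → ∃ g ∈ M, g • a = y ∧ g • y = a := by
    intro y hy hya
    by_cases hby : ∃ k ∈ K, k • b = y
    · obtain ⟨k, hk, hkb⟩ := hby
      have hkM := ((hKM k).1 hk).1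
      have hka := ((hKM k).1 hk).2
      have hkia : k⁻¹ • a = a := by rw [inv_smul_eq_iff, hka]
      refine ⟨k * u * k⁻¹, M.mul_mem (M.mul_mem hkM huM) (M.inv_mem hkM), ?_, ?_⟩
      · rw [mul_smul, mul_smul, hkia, ← hb, hkb]
      · rw [mul_smul, mul_smul, ← hkb, inv_smul_smul, hub, hka]
    · obtain ⟨m, hmM, hmy⟩ := lwb_oddc_trans h.trans Γ₁ hΓ₁ y a hy haΓ
      obtain ⟨c, hc⟩ : ∃ c, c = m • a := ⟨_, rfl⟩
      have hcΓ : c ∉ Γ₁ := hc ▸ hout m hmM a haΓ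
      have hca : c ≠ a := by
        intro hca
        have h3 : m • a = m • y := by rw [← hc, hca, hmy]
        exact hya (smul_left_cancel m h3).symm
      have hbc : ¬ ∃ k ∈ K, k • b = c := by
        rintro ⟨k, hk, hkb⟩
        apply hby
        have hkM := ((hKM k).1 hk).1
        have hka := ((hKM k).1 hk).2
        have hkia : k⁻¹ • a = a := by rw [inv_smul_eq_iff, hka]
        have hkic : k⁻¹ • c = b := by rw [inv_smul_eq_iff, hkb]
        apply Rsymm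
        refine ⟨u * k⁻¹ * m, (hKM _).2 ⟨M.mul_mem (M.mul_mem huM (M.inv_mem hkM)) hmM, ?_⟩, ?_⟩
        · rw [mul_smul, mul_smul, ← hc, hkic, hub]
        · rw [mul_smul, mul_smul, hmy, hkia, ← hb]
      obtain ⟨k, hk, hkc⟩ := hsame c y (hnotΓ c hcΓ hca) (hnotΓ y hy hya) hbc hby
      have hkM := ((hKM k).1 hk).1
      have hka := ((hKM k).1 hk).2
      refine ⟨k * m, M.mul_mem hkM hmM, ?_, ?_⟩
      · rw [mul_smul, ← hc, hkc]
      · rw [mul_smul, hmy, hka]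
  -- move `x` to `a`
  obtain ⟨m, hmM, hma⟩ := lwb_oddc_trans h.trans Γ₁ hΓ₁ a x haΓ hx
  have hy₀Γ : m⁻¹ • y ∉ Γ₁ := hout _ (M.inv_mem hmM) y hy
  have hy₀a : m⁻¹ • y ≠ a := by
    intro hcon
    rw [inv_smul_eq_iff, hma] at hcon
    exact hxy hcon.symm
  obtain ⟨g, hgM, hga, hgy⟩ := claimA _ hy₀Γ hy₀a
  refine ⟨m * g * m⁻¹, M.mul_mem (M.mul_mem hmM hgM) (M.inv_mem hmM), ?_, ?_⟩
  · rw [mul_smul, mul_smul, ← hma, inv_smul_smul, hga, smul_inv_smul]
  · rw [mul_smul, mul_smul, hgy, hma]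

theorem lwb_odd (h : Hyp2 G t ℓ δ) (hr : Fintype.card α - t = 2 * ℓ) (Γ₀ : Finset α)
    (hΓ₀ : Γ₀.card + 1 = t) : Odd (Nat.card (fixingSubgroup G (Γ₀ : Set α))) := by
  classical
  by_contra hodd
  rw [Nat.not_odd_iff_even] at hodd
  apply h.ntrans
  apply LW.lw_trans_of_swaps h.homog
  intro Δ hΔ x hx y hy hxy
  obtain ⟨Γ₁, hΓ₁⟩ : ∃ Γ₁ : Finset α, Γ₁ = (Δ.erase x).erase y := ⟨_, rfl⟩
  have hye : y ∈ Δ.erase x := Finset.mem_erase.2 ⟨hxy.symm, hy⟩
  have hc : Γ₁.card + 1 = t := by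
    rw [hΓ₁, Finset.card_erase_of_mem hye, Finset.card_erase_of_mem hx, hΔ]
    have := h.ht
    omega
  have hxΓ : x ∉ Γ₁ := by
    rw [hΓ₁]; intro hmem
    exact (Finset.mem_erase.1 (Finset.mem_erase.1 hmem).2).1 rfl
  have hyΓ : y ∉ Γ₁ := by
    rw [hΓ₁]; intro hmem
    exact (Finset.mem_erase.1 hmem).1 rfl
  have hev : Even (Nat.card (fixingSubgroup G (Γ₁ : Set α))) := by
    rw [lwb_oddc_card_eq h.trans (by have := h.hn; omega) Γ₁ Γ₀ hc hΓ₀]
    exact hodd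
  obtain ⟨g, hg, hgx, hgy⟩ := lwb_oddc_swap h hr Γ₁ hc hev x y hxΓ hyΓ hxy
  refine ⟨g, hgx, hgy, fun w hw hwx hwy => ?_⟩
  exact (mem_fixingSubgroup_iff G).1 hg w (by
    rw [Finset.mem_coe, hΓ₁]
    exact Finset.mem_erase.2 ⟨hwy, Finset.mem_erase.2 ⟨hwx, hw⟩⟩)

end Cfsg.Agent.LWB
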