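import Mathlib

set_option autoImplicit false

/-!
# Livingstone–Wagner, part (b) (S0748): the structure `Quad` of the final configuration

Blueprint: `notes/S0748_blueprint_helper6.md`, §9.  `Quad X Λ t ℓ δ`: the group `X` acts
`t`-transitively on `Λ`, `|Λ| = t + 2ℓ`, stabilisers of injective `t`-tuples have order `ℓ * δ`,
stabilisers of `(t-1)`-tuples have odd order, stabilisers of `(t+1)`-tuples have order `δ`.
(The action need not be faithful.)
-/

namespace Cfsg.Agent.LWB

open MulAction

structure Quad (X Λ : Type*) [Group X] [MulAction X Λ] (t ℓ δ : ℕ) : Prop where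
  trans : IsMultiplyPretransitive X Λ t
  card_Λ : Nat.card Λ = t + 2 * ℓ
  cardK : ∀ y : Fin t ↪ Λ, Nat.card (stabilizer X y) = ℓ * δ
  odd : ∀ y : Fin (t - 1) ↪ Λ, Odd (Nat.card (stabilizer X y))
  card5 : ∀ y : Fin (t + 1) ↪ Λ, Nat.card (stabilizer X y) = δ

end Cfsg.Agent.LWB
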