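import Mathlib
import Cfsg.Agent.LWB.QuadDefs
import Cfsg.Agent.LW.Pattern
import Cfsg.Agent.LW.Level4a

set_option autoImplicit false
set_option linter.unusedSectionVars false
set_option linter.unusedVariables false

/-! S0748 package P9b (file `Cfsg/Agent/LWB/QuadCent.lean`): the involutions of a `Quad` at level 4 and the
orders of their centralisers in a 4-point stabiliser.
Blueprint `notes/S0748_blueprint_helper6.md` §9c.  Model: `Cfsg/Agent/LW/Level4a.lean`. -/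

namespace Cfsg.Agent.LWB

open MulAction

variable {X Λ : Type*} [Group X] [MulAction X Λ] [Finite X] [Finite Λ] {ℓ δ : ℕ}

theorem lwb_quadcent_mem_stab_iff {d : ℕ} (y : Fin d ↪ Λ) (w : X) :
    w ∈ stabilizer X y ↔ ∀ i, w • y i = y i := by
  rw [mem_stabilizer_iff]
  constructor
  · intro h i
    have := congrArg (fun z : Fin d ↪ Λ => z i) h
    simpa using this
  · intro h
    ext i
    simpa using h i

/-- the stabiliser of a 4-tuple has odd order -/
theorem lwb_quadcent_odd (h : Quad X Λ 4 ℓ δ) (y : Fin 4 ↪ Λ) : Odd (ℓ * δ) := by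
  rw [← h.cardK y]
  let y3 : Fin (4 - 1) ↪ Λ := (Fin.castLEEmb (by omega : 4 - 1 ≤ 4)).trans y
  have hle : stabilizer X y ≤ stabilizer X y3 := by
    intro w hw
    rw [lwb_quadcent_mem_stab_iff] at hw ⊢
    intro i
    exact hw _
  have hdvd := Subgroup.card_dvd_of_le hle
  exact (h.odd y3).of_dvd_nat hdvd

theorem lwb_quadcent_pow (h : Quad X Λ 4 ℓ δ) (y : Fin 4 ↪ Λ) {w : X} (hw : w ∈ stabilizer X y) :
    w ^ (ℓ * δ) = 1 := by
  have h1 := h.cardK y
  have h2 : (⟨w, hw⟩ : stabilizer X y) ^ (ℓ * δ) = 1 := by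
    rw [← h1]; exact pow_card_eq_one'
  have := congrArg Subtype.val h2
  simpa using this

/-- an involution fixes at most 2 points -/
theorem lwb_quadcent_fix_le (h : Quad X Λ 4 ℓ δ) {a : X} (ha : orderOf a = 2) :
    (fixedBy Λ a).ncard ≤ 2 := by
  by_contra hcon
  have hcon' : 4 - 1 ≤ (fixedBy Λ a).ncard := by omega
  obtain ⟨y, hy⟩ := LW.lw_l4_emb_of_le (S := fixedBy Λ a) (d := 4 - 1) hcon'
  have hmem : a ∈ stabilizer X y := (lwb_quadcent_mem_stab_iff y a).2 fun i => hy i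
  have h2 : orderOf a ∣ Nat.card (stabilizer X y) := Subgroup.orderOf_dvd_natCard _ hmem
  rw [ha] at h2
  exact (Nat.not_even_iff_odd.2 (h.odd y)) (even_iff_two_dvd.2 h2)

/-- the number of fixed points of an involution is even -/
theorem lwb_quadcent_parity (h : Quad X Λ 4 ℓ δ) {a : X} (ha : orderOf a = 2) :
    Even (fixedBy Λ a).ncard := by
  classical
  have hp : IsPGroup 2 (Subgroup.zpowers a) := by
    apply IsPGroup.of_card (n := 1)
    rw [Nat.card_zpowers, ha, pow_one]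
  have := Fact.mk Nat.prime_two
  have h1 := hp.card_modEq_card_fixedPoints Λ
  have h2 : (fixedPoints (Subgroup.zpowers a) Λ) = fixedBy Λ a := by
    ext x
    simp only [mem_fixedPoints, mem_fixedBy]
    constructor
    · intro hx
      exact hx ⟨a, Subgroup.mem_zpowers a⟩
    · rintro hx ⟨g, hg⟩
      obtain ⟨k, rfl⟩ := Subgroup.mem_zpowers_iff.1 hg
      change a ^ k • x = x
      exact mem_fixedBy_zpow (mem_fixedBy.2 hx) k
  rw [h2, Nat.card_coe_set_eq, h.card_Λ] at h1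
  have h3 : (4 + 2 * ℓ) % 2 = (fixedBy Λ a).ncard % 2 := h1
  rw [Nat.even_iff]
  omega

/-- every involutory action on the entries of a 4-tuple is induced by an involution -/
theorem lwb_quadcent_exists_inv (h : Quad X Λ 4 ℓ δ) (y : Fin 4 ↪ Λ)
    (σ : Equiv.Perm (Fin 4)) (hσ : ∀ i, σ (σ i) = i) (hσ1 : ∃ i, σ i ≠ i) :
    ∃ a : X, orderOf a = 2 ∧ ∀ i, a • y i = y (σ i) := by
  have := h.trans
  obtain ⟨g, hg⟩ := exists_smul_eq X y (σ.toEmbedding.trans y)
  have hg' : ∀ i, g • y i = y (σ i) := fun i => by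
    have := congrArg (fun z : Fin 4 ↪ Λ => z i) hg
    simpa using this
  have hg2 : g * g ∈ stabilizer X y := (lwb_quadcent_mem_stab_iff y _).2 fun i => by
    rw [mul_smul, hg', hg', hσ]
  obtain ⟨j, hj⟩ := lwb_quadcent_odd h y
  have hpow : (g * g) ^ (ℓ * δ) = 1 := lwb_quadcent_pow h y hg2
  have hgj : ∀ i, (g * g) ^ j • y i = y i := fun i =>
    (lwb_quadcent_mem_stab_iff y _).1 (Subgroup.pow_mem _ hg2 j) i
  have hgs : g ^ (ℓ * δ) = (g * g) ^ j * g := by rw [hj, pow_succ, pow_mul, pow_two]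
  have hact : ∀ i, g ^ (ℓ * δ) • y i = y (σ i) := fun i => by
    rw [hgs, mul_smul, hg', hgj]
  refine ⟨g ^ (ℓ * δ), ?_, hact⟩
  have := Fact.mk Nat.prime_two
  apply orderOf_eq_prime
  · rw [← pow_mul, mul_comm, pow_mul, pow_two]; exact hpow
  · intro h1
    obtain ⟨i, hi⟩ := hσ1
    have h2 := hact i
    rw [h1, one_smul] at h2
    exact hi (y.injective h2).symm

/-- two involutions inducing the same involutory action on `y` are conjugate under the stabiliser of `y` -/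
theorem lwb_quadcent_conj_stab (h : Quad X Λ 4 ℓ δ) (y : Fin 4 ↪ Λ) (σ : Equiv.Perm (Fin 4))
    (hσ : ∀ i, σ (σ i) = i) {a b : X} (ha : orderOf a = 2) (hb : orderOf b = 2)
    (haσ : ∀ i, a • y i = y (σ i)) (hbσ : ∀ i, b • y i = y (σ i)) :
    ∃ κ ∈ stabilizer X y, b = κ * a * κ⁻¹ := by
  have haa := LW.lw_l4_inv_mul_self ha
  have hbb := LW.lw_l4_inv_mul_self hb
  have hw : a * b ∈ stabilizer X y := (lwb_quadcent_mem_stab_iff y _).2 fun i => by
    rw [mul_smul, hbσ, haσ, hσ]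
  have hws := lwb_quadcent_pow h y hw
  obtain ⟨j, hj⟩ := lwb_quadcent_odd h y
  have hsc : SemiconjBy a (a * b) (a * b)⁻¹ := by
    change a * (a * b) = (a * b)⁻¹ * a
    rw [mul_inv_rev, LW.lw_l4_inv_inv ha, LW.lw_l4_inv_inv hb, ← mul_assoc, haa, one_mul, mul_assoc,
      haa, mul_one]
  have hsc' := hsc.pow_right (j + 1)
  refine ⟨((a * b) ^ (j + 1))⁻¹, Subgroup.inv_mem _ (Subgroup.pow_mem _ hw _), ?_⟩
  rw [inv_inv, mul_assoc, hsc'.eq, ← mul_assoc, inv_pow, ← mul_inv_rev, ← pow_add]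
  have : j + 1 + (j + 1) = ℓ * δ + 1 := by omega
  rw [this, pow_succ, hws, one_mul, mul_inv_rev, LW.lw_l4_inv_inv ha, LW.lw_l4_inv_inv hb, mul_assoc,
    haa, mul_one]

/-- the action of shape `(y₀ y₁)(y₂ y₃)` on all four entries -/
theorem lwb_quadcent_act02 {a : X} (ha : orderOf a = 2) {y : Fin 4 ↪ Λ} (h0 : a • y 0 = y 1)
    (h2 : a • y 2 = y 3) : ∀ i, a • y i = y ((Equiv.swap (0 : Fin 4) 1 * Equiv.swap 2 3 : Equiv.Perm (Fin 4)) i) := by
  have h1 := LW.lw_l4_inv_swap ha h0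
  have h3 := LW.lw_l4_inv_swap ha h2
  intro i
  fin_cases i
  · exact h0
  · exact h1
  · exact h2
  · exact h3

/-- the action of shape `(y₀)(y₁)(y₂ y₃)` on all four entries -/
theorem lwb_quadcent_act21 {a : X} (ha : orderOf a = 2) {y : Fin 4 ↪ Λ} (h0 : a • y 0 = y 0)
    (h1 : a • y 1 = y 1) (h2 : a • y 2 = y 3) : ∀ i, a • y i = y ((Equiv.swap (2 : Fin 4) 3) i) := by
  have h3 := LW.lw_l4_inv_swap ha h2
  intro i
  fin_cases i
  · exact h0
  · exact h1
  · exact h2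
  · exact h3

/-- an involution has two different 2-cycles -/
theorem lwb_quadcent_exists_tuple (h : Quad X Λ 4 ℓ δ) (hℓ : 1 ≤ ℓ) {a : X}
    (ha : orderOf a = 2) : ∃ y : Fin 4 ↪ Λ, a • y 0 = y 1 ∧ a • y 2 = y 3 := by
  have h1 := LW.lw_pattern02_count (α := Λ) a (LW.lw_l4_inv_mul_self ha)
  have h2 := lwb_quadcent_fix_le h ha
  have h3 := h.card_Λ
  have hpos : 0 < Nat.card {y : Fin 4 ↪ Λ // a • y 0 = y 1 ∧ a • y 2 = y 3} := by
    rw [h1, h3]
    apply Nat.mul_pos <;> omega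
  obtain ⟨⟨y, hy⟩⟩ := (Nat.card_pos_iff.1 hpos).1
  exact ⟨y, hy⟩

/-- all involutions are conjugate -/
theorem lwb_quadcent_conj (h : Quad X Λ 4 ℓ δ) (hℓ : 1 ≤ ℓ) {a b : X}
    (ha : orderOf a = 2) (hb : orderOf b = 2) : ∃ g : X, b = g * a * g⁻¹ := by
  obtain ⟨ya, hya0, hya2⟩ := lwb_quadcent_exists_tuple h hℓ ha
  obtain ⟨yb, hyb0, hyb2⟩ := lwb_quadcent_exists_tuple h hℓ hb
  have := h.trans
  obtain ⟨g, hg⟩ := exists_smul_eq X ya yb
  have hg' : ∀ i, g • ya i = yb i := fun i => by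
    have := congrArg (fun z : Fin 4 ↪ Λ => z i) hg
    simpa using this
  have hg'' : ∀ i, g⁻¹ • yb i = ya i := fun i => by
    rw [← hg', inv_smul_smul]
  have ha' : orderOf (g * a * g⁻¹) = 2 := by rw [LW.lw_l4_orderOf_conj, ha]
  obtain ⟨κ, -, hκ⟩ := lwb_quadcent_conj_stab h yb _ (by decide) ha' hb
    (lwb_quadcent_act02 ha' (by rw [mul_smul, mul_smul, hg'', hya0, hg'])
      (by rw [mul_smul, mul_smul, hg'', hya2, hg'])) (lwb_quadcent_act02 hb hyb0 hyb2)
  refine ⟨κ * g, ?_⟩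
  rw [hκ]
  group

/-- all involutions have exactly two fixed points -/
theorem lwb_quadcent_fix_two (h : Quad X Λ 4 ℓ δ) (hℓ : 1 ≤ ℓ) (y : Fin 4 ↪ Λ) {b : X}
    (hb : orderOf b = 2) : (fixedBy Λ b).ncard = 2 := by
  obtain ⟨a₀, ha₀, hact⟩ := lwb_quadcent_exists_inv h y (Equiv.swap 2 3) (by decide) ⟨2, by decide⟩
  have h0 : a₀ • y 0 = y 0 := hact 0
  have h1 : a₀ • y 1 = y 1 := hact 1
  have hle := lwb_quadcent_fix_le h ha₀
  have hge : 2 ≤ (fixedBy Λ a₀).ncard := by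
    have hsub : ({y 0, y 1} : Set Λ) ⊆ fixedBy Λ a₀ := by
      intro x hx
      rcases hx with rfl | rfl
      · exact h0
      · exact h1
    have h01 : y 0 ≠ y 1 := fun hh => by
      have := y.injective hh
      exact absurd this (by decide)
    calc 2 = ({y 0, y 1} : Set Λ).ncard := (Set.ncard_pair h01).symm
      _ ≤ _ := Set.ncard_le_ncard hsub (Set.toFinite _)
  obtain ⟨g, rfl⟩ := lwb_quadcent_conj h hℓ ha₀ hb
  rw [← smul_fixedBy]
  have hgc := Set.ncard_image_of_injective (fixedBy Λ a₀) (MulAction.injective (β := Λ) g)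
  change ((fun x => g • x) '' fixedBy Λ a₀).ncard = 2
  omega

/-- orbit–stabiliser for a conjugation-invariant set of elements on which a subgroup is transitive -/
theorem lwb_quadcent_orbit_stab (K : Subgroup X) (P : X → Prop)
    (hP : ∀ κ ∈ K, ∀ a, P a → P (κ * a * κ⁻¹))
    (htr : ∀ a b, P a → P b → ∃ κ ∈ K, b = κ * a * κ⁻¹) {a : X} (ha : P a) :
    Nat.card {b : X // P b} * Nat.card {κ : X // κ ∈ K ∧ κ * a = a * κ} = Nat.card K := by
  classical
  let I := {b : X // P b}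
  let C := {κ : X // κ ∈ K ∧ κ * a = a * κ}
  let f : K → I := fun κ => ⟨κ.1 * a * κ.1⁻¹, hP κ.1 κ.2 a ha⟩
  have hfib : ∀ b : I, Nat.card {κ : K // f κ = b} = Nat.card C := by
    intro b
    obtain ⟨κb, hκb, hb⟩ := htr a b.1 ha b.2
    refine Nat.card_congr ⟨fun κ => ⟨κb⁻¹ * κ.1.1, K.mul_mem (K.inv_mem hκb) κ.1.2, ?_⟩,
      fun c => ⟨⟨κb * c.1, K.mul_mem hκb c.2.1⟩, ?_⟩, ?_, ?_⟩
    · have h1 : κ.1.1 * a * κ.1.1⁻¹ = κb * a * κb⁻¹ := by
        have := congrArg Subtype.val κ.2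
        rw [hb] at this
        exact this
      calc κb⁻¹ * κ.1.1 * a = κb⁻¹ * (κ.1.1 * a * κ.1.1⁻¹) * κ.1.1 := by group
        _ = κb⁻¹ * (κb * a * κb⁻¹) * κ.1.1 := by rw [h1]
        _ = _ := by group
    · apply Subtype.ext
      change κb * c.1 * a * (κb * c.1)⁻¹ = b.1
      rw [hb, mul_assoc κb, c.2.2]
      group
    · intro κ
      apply Subtype.ext
      apply Subtype.ext
      change κb * (κb⁻¹ * κ.1.1) = κ.1.1
      group
    · intro c
      apply Subtype.ext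
      change κb⁻¹ * (κb * c.1) = c.1
      group
  have hI : Finite I := Subtype.finite
  have : Fintype I := Fintype.ofFinite I
  have e := Equiv.sigmaFiberEquiv f
  rw [← Nat.card_congr e, Nat.card_sigma]
  simp only [hfib]
  rw [Finset.sum_const, Finset.card_univ, smul_eq_mul, Nat.card_eq_fintype_card]

/-- generic counting identity for the involutions -/
theorem lwb_quadcent_count_gen (h : Quad X Λ 4 ℓ δ) (P : X → (Fin 4 ↪ Λ) → Prop)
    (hP : ∀ (g a : X) (y : Fin 4 ↪ Λ), P a y → P (g * a * g⁻¹) (g • y)) (c : ℕ)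
    (hc : ∀ a : X, orderOf a = 2 → Nat.card {y : Fin 4 ↪ Λ // P a y} = c) (y₀ : Fin 4 ↪ Λ) :
    Nat.card {a : X // orderOf a = 2} * c =
      (4 + 2 * ℓ).descFactorial 4 * Nat.card {b : X // orderOf b = 2 ∧ P b y₀} := by
  classical
  have h1 := LW.lw_double_count h.trans (fun a y => orderOf a = 2 ∧ P a y)
    (fun g a y hR => ⟨by rw [LW.lw_l4_orderOf_conj]; exact hR.1, hP g a y hR.2⟩) y₀
  rw [h.card_Λ] at h1
  rw [← h1]
  let e : {p : X × (Fin 4 ↪ Λ) // orderOf p.1 = 2 ∧ P p.1 p.2} ≃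
      Σ a : {a : X // orderOf a = 2}, {y : Fin 4 ↪ Λ // P a.1 y} :=
    ⟨fun p => ⟨⟨p.1.1, p.2.1⟩, ⟨p.1.2, p.2.2⟩⟩, fun q => ⟨(q.1.1, q.2.1), q.1.2, q.2.2⟩,
      fun p => rfl, fun q => rfl⟩
  have : Fintype {a : X // orderOf a = 2} := Fintype.ofFinite _
  rw [Nat.card_congr e, Nat.card_sigma]
  have : ∀ a : {a : X // orderOf a = 2}, Nat.card {y : Fin 4 ↪ Λ // P a.1 y} = c :=
    fun a => hc a.1 a.2
  simp only [this]
  rw [Finset.sum_const, Finset.card_univ, smul_eq_mul, Nat.card_eq_fintype_card]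

/-- the ratio of the centraliser orders of an involution of shape `(y₀)(y₁)(y₂ y₃)` and one of shape `(y₀ y₁)(y₂ y₃)` -/
theorem lwb_quadcent_ratio (h : Quad X Λ 4 ℓ δ) (hℓ : 1 ≤ ℓ) (y : Fin 4 ↪ Λ) {a02 a21 : X}
    (h02 : orderOf a02 = 2) (h02a : a02 • y 0 = y 1) (h02b : a02 • y 2 = y 3)
    (h21 : orderOf a21 = 2) (h21a : a21 • y 0 = y 0) (h21b : a21 • y 1 = y 1) (h21c : a21 • y 2 = y 3) :
    Nat.card {κ : X // κ ∈ stabilizer X y ∧ κ * a21 = a21 * κ} =
      ℓ * Nat.card {κ : X // κ ∈ stabilizer X y ∧ κ * a02 = a02 * κ} := by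
  have key : ∀ (g a : X) (z : Fin 4 ↪ Λ) (i j : Fin 4), a • z i = z j →
      (g * a * g⁻¹) • (g • z) i = (g • z) j := by
    intro g a z i j hij
    rw [Function.Embedding.smul_apply, Function.Embedding.smul_apply, mul_smul, mul_smul,
      inv_smul_smul, hij]
  have hf : ∀ a : X, orderOf a = 2 → (fixedBy Λ a).ncard = 2 := fun a ha => lwb_quadcent_fix_two h hℓ y ha
  have c1 := lwb_quadcent_count_gen h (fun a z => a • z 0 = z 1 ∧ a • z 2 = z 3)
    (fun g a z hz => ⟨key g a z 0 1 hz.1, key g a z 2 3 hz.2⟩) ((4 + 2 * ℓ - 2) * (4 + 2 * ℓ - 2 - 2))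
    (fun a ha => by rw [LW.lw_pattern02_count a (LW.lw_l4_inv_mul_self ha), h.card_Λ, hf a ha]) y
  have c2 := lwb_quadcent_count_gen h (fun a z => a • z 0 = z 0 ∧ a • z 1 = z 1 ∧ a • z 2 = z 3)
    (fun g a z hz => ⟨key g a z 0 0 hz.1, key g a z 1 1 hz.2.1, key g a z 2 3 hz.2.2⟩)
    (2 * (2 - 1) * (4 + 2 * ℓ - 2))
    (fun a ha => by rw [LW.lw_pattern21_count a (LW.lw_l4_inv_mul_self ha), h.card_Λ, hf a ha]) y
  have o1 := lwb_quadcent_orbit_stab (stabilizer X y)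
    (fun b => orderOf b = 2 ∧ b • y 0 = y 1 ∧ b • y 2 = y 3)
    (fun κ hκ a ha => ⟨by rw [LW.lw_l4_orderOf_conj]; exact ha.1, LW.lw_l4_conj_act y hκ a 0 1 ha.2.1,
      LW.lw_l4_conj_act y hκ a 2 3 ha.2.2⟩)
    (fun a b ha hb => lwb_quadcent_conj_stab h y _ (by decide) ha.1 hb.1
      (lwb_quadcent_act02 ha.1 ha.2.1 ha.2.2) (lwb_quadcent_act02 hb.1 hb.2.1 hb.2.2))
    (a := a02) ⟨h02, h02a, h02b⟩
  have o2 := lwb_quadcent_orbit_stab (stabilizer X y)
    (fun b => orderOf b = 2 ∧ b • y 0 = y 0 ∧ b • y 1 = y 1 ∧ b • y 2 = y 3)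
    (fun κ hκ a ha => ⟨by rw [LW.lw_l4_orderOf_conj]; exact ha.1, LW.lw_l4_conj_act y hκ a 0 0 ha.2.1,
      LW.lw_l4_conj_act y hκ a 1 1 ha.2.2.1, LW.lw_l4_conj_act y hκ a 2 3 ha.2.2.2⟩)
    (fun a b ha hb => lwb_quadcent_conj_stab h y _ (by decide) ha.1 hb.1
      (lwb_quadcent_act21 ha.1 ha.2.1 ha.2.2.1 ha.2.2.2) (lwb_quadcent_act21 hb.1 hb.2.1 hb.2.2.1 hb.2.2.2))
    (a := a21) ⟨h21, h21a, h21b, h21c⟩
  -- the arithmetic
  set I := Nat.card {a : X // orderOf a = 2} with hI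
  set N4 := (4 + 2 * ℓ).descFactorial 4 with hN4
  set i02 := Nat.card {b : X // orderOf b = 2 ∧ b • y 0 = y 1 ∧ b • y 2 = y 3} with hi02
  set i21 := Nat.card {b : X // orderOf b = 2 ∧ b • y 0 = y 0 ∧ b • y 1 = y 1 ∧ b • y 2 = y 3} with hi21
  set c02 := Nat.card {κ : X // κ ∈ stabilizer X y ∧ κ * a02 = a02 * κ} with hc02
  set c21 := Nat.card {κ : X // κ ∈ stabilizer X y ∧ κ * a21 = a21 * κ} with hc21
  have e1 : 4 + 2 * ℓ - 2 = 2 * ℓ + 2 := by omega
  have e2 : 2 * ℓ + 2 - 2 = 2 * ℓ := by omega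
  have e3 : 2 - 1 = 1 := rfl
  rw [e1, e2] at c1
  rw [e1, e3] at c2
  have hN4pos : 0 < N4 := by
    apply Nat.pos_of_ne_zero
    rw [hN4, Ne, Nat.descFactorial_eq_zero_iff_lt]
    omega
  have hKpos : 0 < Nat.card (stabilizer X y) := Nat.card_pos
  have h1 : N4 * i02 = N4 * (ℓ * i21) := by
    calc N4 * i02 = I * ((2 * ℓ + 2) * (2 * ℓ)) := c1.symm
      _ = ℓ * (I * (2 * 1 * (2 * ℓ + 2))) := by ring
      _ = ℓ * (N4 * i21) := by rw [c2]
      _ = N4 * (ℓ * i21) := by ring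
  have h2 : i02 = ℓ * i21 := Nat.eq_of_mul_eq_mul_left hN4pos h1
  have hi21pos : 0 < i21 := by
    apply Nat.pos_of_ne_zero
    intro h0
    rw [h0, zero_mul] at o2
    omega
  have h3 : i21 * c21 = i21 * (ℓ * c02) := by
    calc i21 * c21 = Nat.card (stabilizer X y) := o2
      _ = i02 * c02 := o1.symm
      _ = ℓ * i21 * c02 := by rw [h2]
      _ = i21 * (ℓ * c02) := by ring
  exact Nat.eq_of_mul_eq_mul_left hi21pos h3

/-- the centraliser in the stabiliser of `y` of an involution moving every `y i` fixes the fixed points of the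
involution; its order divides `δ` -/
theorem lwb_quadcent_cent_dvd (h : Quad X Λ 4 ℓ δ) (hℓ : 1 ≤ ℓ) (y : Fin 4 ↪ Λ) {a : X}
    (ha : orderOf a = 2) (hmove : ∀ i, a • y i ≠ y i) :
    Nat.card {κ : X // κ ∈ stabilizer X y ∧ κ * a = a * κ} ∣ δ := by
  classical
  obtain ⟨p, p', hpp', hfix⟩ := Set.ncard_eq_two.mp (lwb_quadcent_fix_two h hℓ y ha)
  have hp : a • p = p := by
    have : p ∈ fixedBy Λ a := by rw [hfix]; exact Set.mem_insert _ _
    exact this
  have hp' : a • p' = p' := by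
    have : p' ∈ fixedBy Λ a := by rw [hfix]; exact Set.mem_insert_of_mem _ rfl
    exact this
  have hcases : ∀ z : Λ, a • z = z → z = p ∨ z = p' := by
    intro z hz
    have : z ∈ fixedBy Λ a := hz
    rw [hfix] at this
    exact this
  let Cs : Subgroup X :=
    { carrier := {κ | κ ∈ stabilizer X y ∧ κ * a = a * κ}
      mul_mem' := by
        rintro κ κ' ⟨h1, h2⟩ ⟨h1', h2'⟩
        refine ⟨mul_mem h1 h1', ?_⟩
        rw [mul_assoc, h2', ← mul_assoc, h2, mul_assoc]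
      one_mem' := ⟨one_mem _, by rw [one_mul, mul_one]⟩
      inv_mem' := by
        rintro κ ⟨h1, h2⟩
        refine ⟨inv_mem h1, ?_⟩
        calc κ⁻¹ * a = κ⁻¹ * (a * κ) * κ⁻¹ := by group
          _ = κ⁻¹ * (κ * a) * κ⁻¹ := by rw [h2]
          _ = a * κ⁻¹ := by group }
  have hcard : Nat.card {κ : X // κ ∈ stabilizer X y ∧ κ * a = a * κ} = Nat.card Cs := rfl
  have hfixp : ∀ κ ∈ Cs, κ • p = p := by
    rintro κ ⟨hκ1, hκ2⟩
    by_contra hne
    have hcomm : ∀ z : Λ, a • z = z → a • κ • z = κ • z := by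
      intro z hz
      rw [← mul_smul, ← hκ2, mul_smul, hz]
    have h1 : κ • p = p' := by
      rcases hcases _ (hcomm p hp) with h1 | h1
      · exact absurd h1 hne
      · exact h1
    have h2 : κ • p' = p := by
      rcases hcases _ (hcomm p' hp') with h2 | h2
      · exact h2
      · exfalso
        have : κ • p' = κ • p := by rw [h2, h1]
        exact hpp' (MulAction.injective κ this).symm
    have h3 : (κ * κ) • p' = p' := by rw [mul_smul, h2, h1]
    obtain ⟨j, hj⟩ := lwb_quadcent_odd h y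
    have h4 : κ ^ (ℓ * δ) = 1 := lwb_quadcent_pow h y hκ1
    have h5 : κ ^ (ℓ * δ) = (κ * κ) ^ j * κ := by rw [hj, pow_succ, pow_mul, pow_two]
    have h6 : (κ * κ) ^ j • p' = p' := by
      have : (κ * κ) ^ j ∈ stabilizer X p' := Subgroup.pow_mem _ (mem_stabilizer_iff.mpr h3) j
      exact mem_stabilizer_iff.mp this
    have h7 : κ ^ (ℓ * δ) • p = p' := by rw [h5, mul_smul, h1, h6]
    rw [h4, one_smul] at h7
    exact hpp' h7
  have hpr : p ∉ Set.range y := by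
    rintro ⟨i, rfl⟩
    exact hmove i hp
  have hle : Cs ≤ stabilizer X (Fin.Embedding.snoc y hpr) := by
    intro κ hκ
    rw [lwb_quadcent_mem_stab_iff]
    intro i
    induction i using Fin.lastCases with
    | last => rw [Fin.Embedding.snoc_last]; exact hfixp κ hκ
    | cast i =>
      rw [Fin.Embedding.snoc_castSucc]
      exact (lwb_quadcent_mem_stab_iff y κ).1 hκ.1 i
  rw [hcard, ← h.card5 (Fin.Embedding.snoc y hpr)]
  exact Subgroup.card_dvd_of_le hle

/-- the centraliser orders in the four-group configuration -/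
theorem lwb_quad_cent (h : Quad X Λ 4 ℓ δ) (hℓ : 1 ≤ ℓ) (y : Fin 4 ↪ Λ) :
    ∃ (b b' : X) (c : ℕ), orderOf b = 2 ∧ orderOf b' = 2 ∧ b * b' = b' * b ∧
      (∀ κ ∈ stabilizer X y, b * κ * b⁻¹ ∈ stabilizer X y) ∧
      (∀ κ ∈ stabilizer X y, b' * κ * b'⁻¹ ∈ stabilizer X y) ∧
      c ∣ δ ∧
      Nat.card {κ : X // κ ∈ stabilizer X y ∧ κ * b = b * κ} = ℓ * c ∧
      Nat.card {κ : X // κ ∈ stabilizer X y ∧ κ * b' = b' * κ} = ℓ * c ∧
      Nat.card {κ : X // κ ∈ stabilizer X y ∧ κ * (b * b') = (b * b') * κ} = c := by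
  classical
  have hprime := Fact.mk Nat.prime_two
  -- `b` of shape `(y₀ y₁)`
  obtain ⟨b, hb, hbact⟩ := lwb_quadcent_exists_inv h y (Equiv.swap 0 1) (by decide) ⟨0, by decide⟩
  have hbb := LW.lw_l4_inv_mul_self hb
  have hbinv := LW.lw_l4_inv_inv hb
  -- the involutions of shape `(y₂ y₃)`
  obtain ⟨a21, ha21, ha21act⟩ := lwb_quadcent_exists_inv h y (Equiv.swap 2 3) (by decide) ⟨2, by decide⟩
  have hos := lwb_quadcent_orbit_stab (stabilizer X y)
    (fun a => orderOf a = 2 ∧ ∀ i, a • y i = y (Equiv.swap (2 : Fin 4) 3 i))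
    (fun κ hκ a ha => ⟨by rw [LW.lw_l4_orderOf_conj]; exact ha.1,
      fun i => LW.lw_l4_conj_act y hκ a i _ (ha.2 i)⟩)
    (fun a b ha hb => lwb_quadcent_conj_stab h y _ (by decide) ha.1 hb.1 ha.2 hb.2)
    (a := a21) ⟨ha21, ha21act⟩
  have hoddK : Odd (Nat.card (stabilizer X y)) := by rw [h.cardK y]; exact lwb_quadcent_odd h y
  have hoddS : Odd (Nat.card {a : X // orderOf a = 2 ∧ ∀ i, a • y i = y (Equiv.swap (2 : Fin 4) 3 i)}) := by
    rw [← hos] at hoddK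
    exact (Nat.odd_mul.mp hoddK).1
  -- conjugation by `b` on this set
  have hφ : ∀ a : {a : X // orderOf a = 2 ∧ ∀ i, a • y i = y (Equiv.swap (2 : Fin 4) 3 i)},
      orderOf (b * a.1 * b⁻¹) = 2 ∧ ∀ i, (b * a.1 * b⁻¹) • y i = y (Equiv.swap (2 : Fin 4) 3 i) := by
    intro a
    refine ⟨by rw [LW.lw_l4_orderOf_conj]; exact a.2.1, fun i => ?_⟩
    rw [hbinv, mul_smul, mul_smul, hbact, a.2.2, hbact]
    congr 1
    revert i
    decide
  let φ : {a : X // orderOf a = 2 ∧ ∀ i, a • y i = y (Equiv.swap (2 : Fin 4) 3 i)} →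
      {a : X // orderOf a = 2 ∧ ∀ i, a • y i = y (Equiv.swap (2 : Fin 4) 3 i)} :=
    fun a => ⟨b * a.1 * b⁻¹, hφ a⟩
  have hφφ : ∀ a, φ (φ a) = a := by
    intro a
    apply Subtype.ext
    change b * (b * a.1 * b⁻¹) * b⁻¹ = a.1
    rw [hbinv]
    calc b * (b * a.1 * b) * b = (b * b) * a.1 * (b * b) := by group
      _ = a.1 := by rw [hbb, one_mul, mul_one]
  let τ : Equiv.Perm {a : X // orderOf a = 2 ∧ ∀ i, a • y i = y (Equiv.swap (2 : Fin 4) 3 i)} :=
    ⟨φ, φ, hφφ, hφφ⟩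
  have hfin : Fintype {a : X // orderOf a = 2 ∧ ∀ i, a • y i = y (Equiv.swap (2 : Fin 4) 3 i)} :=
    Fintype.ofFinite _
  have hnd : ¬ 2 ∣ Fintype.card {a : X // orderOf a = 2 ∧ ∀ i, a • y i = y (Equiv.swap (2 : Fin 4) 3 i)} := by
    rw [← Nat.card_eq_fintype_card]
    exact fun hd => (Nat.not_even_iff_odd.2 hoddS) (even_iff_two_dvd.2 hd)
  have hτ : τ ^ 2 ^ 1 = 1 := by
    ext a : 1
    rw [pow_one, pow_two]
    exact hφφ a
  obtain ⟨⟨b', hb'P⟩, hb'fix⟩ := Equiv.Perm.exists_fixed_point_of_prime hnd hτ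
  have hb' : orderOf b' = 2 := hb'P.1
  have hb'act := hb'P.2
  have hcomm : b * b' = b' * b := by
    have e : b * b' * b⁻¹ = b' := congrArg Subtype.val hb'fix
    calc b * b' = (b * b' * b⁻¹) * b := by group
      _ = b' * b := by rw [e]
  -- the product
  have hpact : ∀ i, (b * b') • y i =
      y ((Equiv.swap (0 : Fin 4) 1 * Equiv.swap 2 3 : Equiv.Perm (Fin 4)) i) := by
    intro i
    rw [mul_smul, hb'act, hbact]
    rfl
  have hprod : orderOf (b * b') = 2 := by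
    apply orderOf_eq_prime
    · rw [pow_two]
      calc b * b' * (b * b') = b * (b' * b) * b' := by group
        _ = b * (b * b') * b' := by rw [hcomm]
        _ = (b * b) * (b' * b') := by group
        _ = 1 := by rw [hbb, LW.lw_l4_inv_mul_self hb', one_mul]
    · intro h1
      have h2 := hpact 0
      rw [h1, one_smul] at h2
      exact absurd (y.injective h2) (by decide)
  -- normalisation of the stabiliser
  have hnorm : ∀ (a : X) (σ : Equiv.Perm (Fin 4)), (∀ i, σ (σ i) = i) → orderOf a = 2 →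
      (∀ i, a • y i = y (σ i)) → ∀ κ ∈ stabilizer X y, a * κ * a⁻¹ ∈ stabilizer X y := by
    intro a σ hσ ha hact κ hκ
    rw [lwb_quadcent_mem_stab_iff] at hκ ⊢
    intro i
    rw [LW.lw_l4_inv_inv ha, mul_smul, mul_smul, hact, hκ, hact, hσ]
  -- the reindexed tuple `(y₂, y₃, y₀, y₁)`
  set π : Equiv.Perm (Fin 4) := Equiv.swap 0 2 * Equiv.swap 1 3 with hπ
  set y' : Fin 4 ↪ Λ := π.toEmbedding.trans y with hy'
  have hy'i : ∀ i, y' i = y (π i) := fun i => rfl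
  have hy'act : ∀ (a : X) (σ : Equiv.Perm (Fin 4)), (∀ i, a • y i = y (σ i)) → ∀ i j, σ (π i) = π j →
      a • y' i = y' j := by
    intro a σ hact i j hij
    rw [hy'i, hy'i, hact, hij]
  have hstab : stabilizer X y' = stabilizer X y := by
    ext κ
    rw [lwb_quadcent_mem_stab_iff, lwb_quadcent_mem_stab_iff]
    constructor
    · intro hκ i
      have := hκ (π.symm i)
      rwa [hy'i, Equiv.apply_symm_apply] at this
    · intro hκ i
      rw [hy'i]
      exact hκ _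
  have r1 := lwb_quadcent_ratio h hℓ y hprod (hpact 0) (hpact 2) hb' (hb'act 0) (hb'act 1) (hb'act 2)
  have r2 := lwb_quadcent_ratio h hℓ y' hprod
    (hy'act (b * b') _ hpact 0 1 (by decide)) (hy'act (b * b') _ hpact 2 3 (by decide)) hb
    (hy'act b _ hbact 0 0 (by decide)) (hy'act b _ hbact 1 1 (by decide)) (hy'act b _ hbact 2 3 (by decide))
  rw [hstab] at r2
  have hσne : ∀ i : Fin 4, (Equiv.swap (0 : Fin 4) 1 * Equiv.swap 2 3 : Equiv.Perm (Fin 4)) i ≠ i := by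
    decide
  have hdvd := lwb_quadcent_cent_dvd h hℓ y hprod (fun i hi => by
    rw [hpact i] at hi
    exact hσne i (y.injective hi))
  exact ⟨b, b', _, hb, hb', hcomm, hnorm b _ (by decide) hb hbact, hnorm b' _ (by decide) hb' hb'act,
    hdvd, r2, r1, rfl⟩

end Cfsg.Agent.LWB
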