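import Mathlib
import Cfsg.Agent.Helper1.SylowInt

set_option autoImplicit false

/-! S0748 package P9c (file `Cfsg/Agent/LWB/QuadCop.lean`): a four-group acting on a group of odd order
(elementary coprime action via Sylow).  Blueprint `notes/S0748_blueprint_helper6.md` §9d.
Route: `A := closure {b, b'}` is an elementary abelian `2`-group acting coprimely on `K`; the landed invariant-Sylow
lemmas (`Helper1/SylowInt.lean`: S0023–S0025) give `A`-invariant Sylow `p`-subgroups `U ≤ C_K(b)`, `U' ≤ C_K(b')` of `K`,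
conjugate under `C_K(A)`; so `U' ≤ C_K(b b')`. -/

namespace Cfsg.Agent.LWB

open Cfsg.Agent.Helper1

open scoped Pointwise

section

variable {X : Type*} [Group X]

/-- `C_K(b)` as a subgroup. -/
def lwb_quadcop_cent (K : Subgroup X) (b : X) : Subgroup X where
  carrier := {κ | κ ∈ K ∧ κ * b = b * κ}
  one_mem' := ⟨K.one_mem, by simp⟩
  mul_mem' := by
    rintro x y ⟨hx, hxb⟩ ⟨hy, hyb⟩
    exact ⟨K.mul_mem hx hy, by rw [mul_assoc, hyb, ← mul_assoc, hxb, mul_assoc]⟩
  inv_mem' := by
    rintro x ⟨hx, hxb⟩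
    refine ⟨K.inv_mem hx, ?_⟩
    calc x⁻¹ * b = x⁻¹ * (b * x) * x⁻¹ := by group
      _ = x⁻¹ * (x * b) * x⁻¹ := by rw [hxb]
      _ = b * x⁻¹ := by group

theorem lwb_quadcop_mem_cent {K : Subgroup X} {b κ : X} :
    κ ∈ lwb_quadcop_cent K b ↔ κ ∈ K ∧ κ * b = b * κ := Iff.rfl

theorem lwb_quadcop_cent_le (K : Subgroup X) (b : X) : lwb_quadcop_cent K b ≤ K := fun _ h => h.1

theorem lwb_quadcop_card_cent (K : Subgroup X) (b : X) :
    Nat.card {κ : X // κ ∈ K ∧ κ * b = b * κ} = Nat.card (lwb_quadcop_cent K b) := rfl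

/-- an involution which maps `H` into itself normalizes `H`. -/
theorem lwb_quadcop_mem_normalizer {H : Subgroup X} {g : X} (hg : g * g = 1) (h : ∀ κ ∈ H, g * κ * g⁻¹ ∈ H) :
    g ∈ Subgroup.normalizer (H : Set X) := by
  rw [Subgroup.mem_normalizer_iff]
  intro κ
  refine ⟨h κ, fun h1 => ?_⟩
  have h2 := h _ h1
  have e : g * (g * κ * g⁻¹) * g⁻¹ = (g * g) * κ * (g * g)⁻¹ := by group
  rw [e, hg] at h2
  simpa using h2

/-- the elements of the group generated by two commuting involutions are involutions commuting with both. -/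
theorem lwb_quadcop_closure {b b' : X} (hb : b * b = 1) (hb' : b' * b' = 1) (hc : b * b' = b' * b) :
    ∀ g ∈ Subgroup.closure ({b, b'} : Set X), g * g = 1 := by
  have hcomm : ∀ x ∈ ({b, b'} : Set X), ∀ y ∈ ({b, b'} : Set X), x * y = y * x := by
    intro x hx y hy
    rcases hx with rfl | rfl <;> rcases hy with rfl | rfl
    · rfl
    · exact hc
    · exact hc.symm
    · rfl
  have hmc := Subgroup.isMulCommutative_closure hcomm
  intro g hg
  induction hg using Subgroup.closure_induction with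
  | mem x hx =>
    rcases hx with rfl | rfl
    · exact hb
    · exact hb'
  | one => simp
  | mul x y hx hy ihx ihy =>
    have hxy : x * y = y * x := by
      have := hmc.is_comm.comm (⟨x, hx⟩ : Subgroup.closure ({b, b'} : Set X)) ⟨y, hy⟩
      exact congrArg Subtype.val this
    calc x * y * (x * y) = x * (y * x) * y := by group
      _ = x * (x * y) * y := by rw [hxy]
      _ = (x * x) * (y * y) := by group
      _ = 1 := by rw [ihx, ihy, one_mul]
  | inv x hx ih =>
    have : x⁻¹ = x := by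
      rw [inv_eq_iff_mul_eq_one]
      exact ih
    rw [this]
    exact ih

/-- `A = ⟨b, b'⟩` normalizes `C_K(b)` and `C_K(b')`. -/
theorem lwb_quadcop_normalizes {K : Subgroup X} {b g : X} (hg : g * g = 1) (hgb : g * b = b * g)
    (hgK : ∀ κ ∈ K, g * κ * g⁻¹ ∈ K) : g ∈ Subgroup.normalizer (lwb_quadcop_cent K b : Set X) := by
  apply lwb_quadcop_mem_normalizer hg
  rintro κ ⟨hκ, hκb⟩
  refine ⟨hgK κ hκ, ?_⟩
  have hgb' : g⁻¹ * b = b * g⁻¹ := by
    calc g⁻¹ * b = g⁻¹ * (b * g) * g⁻¹ := by group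
      _ = g⁻¹ * (g * b) * g⁻¹ := by rw [hgb]
      _ = b * g⁻¹ := by group
  calc g * κ * g⁻¹ * b = g * κ * (g⁻¹ * b) := by group
    _ = g * κ * (b * g⁻¹) := by rw [hgb']
    _ = g * (κ * b) * g⁻¹ := by group
    _ = g * (b * κ) * g⁻¹ := by rw [hκb]
    _ = (g * b) * κ * g⁻¹ := by group
    _ = (b * g) * κ * g⁻¹ := by rw [hgb]
    _ = b * (g * κ * g⁻¹) := by group

end

/-- an `A`-invariant subgroup `U ≤ C_K(b)` of `K` of order the full `p`-part of `|K|`. -/
theorem lwb_quadcop_exists {X : Type*} [Group X] [Finite X] (K : Subgroup X) (A : Subgroup X)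
    (hsolv : Group.IsSolvable A)
    (hcop : ∀ M : Subgroup X, M ≤ K → (Nat.card A).Coprime (Nat.card M))
    (b : X) (hAb : A ≤ Subgroup.normalizer (lwb_quadcop_cent K b : Set X))
    (p : ℕ) [Fact p.Prime]
    (h1 : ∀ e : ℕ, p ^ e ∣ Nat.card K → p ^ e ∣ Nat.card (lwb_quadcop_cent K b)) :
    ∃ P : Sylow p K, (P : Subgroup K).map K.subtype ≤ lwb_quadcop_cent K b ∧
      A ≤ Subgroup.normalizer ((P : Subgroup K).map K.subtype : Set X) := by
  have hp : p.Prime := Fact.out
  obtain ⟨P, hP⟩ := exists_invariant_sylow (p := p) A (lwb_quadcop_cent K b) hAb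
    (hcop _ (lwb_quadcop_cent_le K b)) (Or.inl hsolv)
  set U : Subgroup X := (P : Subgroup (lwb_quadcop_cent K b)).map (lwb_quadcop_cent K b).subtype with hU
  have hUC : U ≤ lwb_quadcop_cent K b := Subgroup.map_subtype_le _
  have hUK : U ≤ K := hUC.trans (lwb_quadcop_cent_le K b)
  obtain ⟨P₀⟩ : Nonempty (Sylow p K) := inferInstance
  have hKne : Nat.card K ≠ 0 := Nat.card_pos.ne'
  have hCne : Nat.card (lwb_quadcop_cent K b) ≠ 0 := Nat.card_pos.ne'
  have hfac : (Nat.card (lwb_quadcop_cent K b)).factorization p = (Nat.card K).factorization p := by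
    apply le_antisymm
    · exact (Nat.factorization_le_iff_dvd hCne hKne).mpr (Subgroup.card_dvd_of_le (lwb_quadcop_cent_le K b)) p
    · exact (hp.pow_dvd_iff_le_factorization hCne).mp (h1 _ (Nat.ordProj_dvd _ _))
  have hcard : Nat.card U = Nat.card P₀ := by
    rw [hU, card_map_subtype, P.card_eq_multiplicity, P₀.card_eq_multiplicity, hfac]
  obtain ⟨P', hP'⟩ := exists_sylow_map_eq K U hUK P₀ hcard
  refine ⟨P', ?_, ?_⟩
  · rw [hP']
    exact hUC
  · rw [hP']
    exact hP

/-- commuting involutions `b, b'` normalising an odd-order subgroup `K`; `p` a prime dividing `|K|` such that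
the full `p`-part of `|K|` divides `|C_K(b)|` and `|C_K(b')|` but `p ∤ |C_K(b b')|`: impossible -/
theorem lwb_quad_coprime {X : Type*} [Group X] [Finite X] (K : Subgroup X) (hK : Odd (Nat.card K))
    (b b' : X) (hb : orderOf b = 2) (hb' : orderOf b' = 2) (hc : b * b' = b' * b)
    (hbK : ∀ κ ∈ K, b * κ * b⁻¹ ∈ K) (hb'K : ∀ κ ∈ K, b' * κ * b'⁻¹ ∈ K)
    (p : ℕ) [Fact p.Prime] (hp : p ∣ Nat.card K)
    (h1 : ∀ e : ℕ, p ^ e ∣ Nat.card K → p ^ e ∣ Nat.card {κ : X // κ ∈ K ∧ κ * b = b * κ})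
    (h2 : ∀ e : ℕ, p ^ e ∣ Nat.card K → p ^ e ∣ Nat.card {κ : X // κ ∈ K ∧ κ * b' = b' * κ})
    (h3 : ¬ p ∣ Nat.card {κ : X // κ ∈ K ∧ κ * (b * b') = (b * b') * κ}) : False := by
  have hpp : p.Prime := Fact.out
  have hbb : b * b = 1 := by rw [← sq, ← hb, pow_orderOf_eq_one]
  have hbb' : b' * b' = 1 := by rw [← sq, ← hb', pow_orderOf_eq_one]
  set A : Subgroup X := Subgroup.closure ({b, b'} : Set X) with hA
  have hbA : b ∈ A := Subgroup.subset_closure (by simp)
  have hb'A : b' ∈ A := Subgroup.subset_closure (by simp)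
  have hAsq := lwb_quadcop_closure hbb hbb' hc
  -- `A` is a `2`-group
  have hA2 : IsPGroup 2 A := by
    intro g
    refine ⟨1, ?_⟩
    apply Subtype.ext
    rw [pow_one, sq]
    exact hAsq g.1 g.2
  obtain ⟨n, hn⟩ := IsPGroup.iff_card.mp hA2
  have hcop : ∀ M : Subgroup X, M ≤ K → (Nat.card A).Coprime (Nat.card M) := by
    intro M hM
    rw [hn]
    apply Nat.Coprime.pow_left
    rw [Nat.coprime_two_left]
    obtain ⟨d, hd⟩ := Subgroup.card_dvd_of_le hM
    rw [hd] at hK
    exact (Nat.odd_mul.mp hK).1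
  have hsolv : Group.IsSolvable A := by
    have hcomm : ∀ x ∈ ({b, b'} : Set X), ∀ y ∈ ({b, b'} : Set X), x * y = y * x := by
      intro x hx y hy
      rcases hx with rfl | rfl <;> rcases hy with rfl | rfl
      · rfl
      · exact hc
      · exact hc.symm
      · rfl
    have hmc := Subgroup.isMulCommutative_closure hcomm
    exact Group.isSolvable_of_comm (fun x y => hmc.is_comm.comm x y)
  have hAK : A ≤ Subgroup.normalizer (K : Set X) := by
    rw [hA, Subgroup.closure_le]
    rintro g (rfl | rfl)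
    · exact lwb_quadcop_mem_normalizer hbb hbK
    · exact lwb_quadcop_mem_normalizer hbb' hb'K
  have hAb : A ≤ Subgroup.normalizer (lwb_quadcop_cent K b : Set X) := by
    rw [hA, Subgroup.closure_le]
    rintro g (rfl | rfl)
    · exact lwb_quadcop_normalizes hbb rfl hbK
    · exact lwb_quadcop_normalizes hbb' hc.symm hb'K
  have hAb' : A ≤ Subgroup.normalizer (lwb_quadcop_cent K b' : Set X) := by
    rw [hA, Subgroup.closure_le]
    rintro g (rfl | rfl)
    · exact lwb_quadcop_normalizes hbb hc hbK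
    · exact lwb_quadcop_normalizes hbb' rfl hb'K
  obtain ⟨P, hPle, hPA⟩ := lwb_quadcop_exists K A hsolv hcop b hAb p h1
  obtain ⟨Q, hQle, hQA⟩ := lwb_quadcop_exists K A hsolv hcop b' hAb' p h2
  obtain ⟨c, hcA, hcPQ⟩ := invariant_sylow_conj A K hAK (hcop K le_rfl) (Or.inl hsolv) P Q hPA hQA
  -- `Q ≤ C_K(b b')`
  have hQbb : (Q : Subgroup K).map K.subtype ≤ lwb_quadcop_cent K (b * b') := by
    intro u hu
    have hu' : u ∈ lwb_quadcop_cent K b' := hQle hu
    have e1 : (Q : Subgroup K).map K.subtype = MulAut.conj (c : X) • (P : Subgroup K).map K.subtype := by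
      rw [← hcPQ]
      exact sylow_smul_map K P c
    rw [e1, mem_conj_smul] at hu
    have hv := hPle hu
    have hcb : b * (c : X) = (c : X) * b := (Subgroup.mem_centralizer_iff.mp hcA) b hbA
    have hub : u * b = b * u := by
      have e2 : u = (c : X) * ((c : X)⁻¹ * u * (c : X)) * (c : X)⁻¹ := by group
      have hcb' : (c : X)⁻¹ * b = b * (c : X)⁻¹ := by
        calc (c : X)⁻¹ * b = (c : X)⁻¹ * (b * (c : X)) * (c : X)⁻¹ := by group
          _ = (c : X)⁻¹ * ((c : X) * b) * (c : X)⁻¹ := by rw [hcb]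
          _ = b * (c : X)⁻¹ := by group
      set v := (c : X)⁻¹ * u * (c : X) with hvdef
      rw [e2]
      calc (c : X) * v * (c : X)⁻¹ * b = (c : X) * v * ((c : X)⁻¹ * b) := by group
        _ = (c : X) * v * (b * (c : X)⁻¹) := by rw [hcb']
        _ = (c : X) * (v * b) * (c : X)⁻¹ := by group
        _ = (c : X) * (b * v) * (c : X)⁻¹ := by rw [hv.2]
        _ = ((c : X) * b) * v * (c : X)⁻¹ := by group
        _ = (b * (c : X)) * v * (c : X)⁻¹ := by rw [hcb]
        _ = b * ((c : X) * v * (c : X)⁻¹) := by group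
    refine ⟨hu'.1, ?_⟩
    calc u * (b * b') = (u * b) * b' := by group
      _ = (b * u) * b' := by rw [hub]
      _ = b * (u * b') := by group
      _ = b * (b' * u) := by rw [hu'.2]
      _ = b * b' * u := by group
  apply h3
  rw [lwb_quadcop_card_cent]
  have hQcard : Nat.card ((Q : Subgroup K).map K.subtype) = p ^ (Nat.card K).factorization p := by
    rw [card_map_subtype, Q.card_eq_multiplicity]
  have hpos : 0 < (Nat.card K).factorization p :=
    hpp.factorization_pos_of_dvd Nat.card_pos.ne' hp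
  calc p ∣ p ^ (Nat.card K).factorization p := dvd_pow_self p hpos.ne'
    _ = Nat.card ((Q : Subgroup K).map K.subtype) := hQcard.symm
    _ ∣ Nat.card (lwb_quadcop_cent K (b * b')) := Subgroup.card_dvd_of_le hQbb

end Cfsg.Agent.LWB
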