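import Mathlib
import Cfsg.Agent.LWB.QuadDefs
import Cfsg.Agent.LWB.QuadCent

set_option autoImplicit false
set_option linter.unusedSectionVars false

/-! S0748 package P9a (file `Cfsg/Agent/LWB/QuadStab.lean`): `Quad` descends to a point stabiliser.
Blueprint `notes/S0748_blueprint_helper6.md` §9b.  Model: `Cfsg.Agent.LW.lw_sharp_stab`. -/

namespace Cfsg.Agent.LWB

open MulAction

variable {X Λ : Type*} [Group X] [MulAction X Λ] [Finite X] [Finite Λ] {t ℓ δ : ℕ}

/-- the stabiliser of a tuple in the point stabiliser is the stabiliser of the extended tuple -/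
theorem lwb_quadstab_mem {n : ℕ} (a : Λ) (y : Fin n ↪ SubMulAction.ofStabilizer X a) (k : stabilizer X a) :
    k ∈ stabilizer (stabilizer X a) y ↔ (k : X) ∈ stabilizer X (SubMulAction.ofStabilizer.snoc y) := by
  rw [lwb_quadcent_mem_stab_iff, lwb_quadcent_mem_stab_iff]
  constructor
  · intro h i
    induction i using Fin.lastCases with
    | last => rw [SubMulAction.ofStabilizer.snoc_last]; exact k.2
    | cast i =>
      rw [SubMulAction.ofStabilizer.snoc_castSucc]
      have := congrArg Subtype.val (h i)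
      exact this
  · intro h i
    apply Subtype.ext
    have := h i.castSucc
    rw [SubMulAction.ofStabilizer.snoc_castSucc] at this
    exact this

theorem lwb_quadstab_card {n : ℕ} (a : Λ) (y : Fin n ↪ SubMulAction.ofStabilizer X a) :
    Nat.card (stabilizer (stabilizer X a) y) =
      Nat.card (stabilizer X (SubMulAction.ofStabilizer.snoc y)) := by
  refine Nat.card_congr ⟨fun k => ⟨k.1.1, (lwb_quadstab_mem a y k.1).mp k.2⟩,
    fun g => ⟨⟨g.1, ?_⟩, ?_⟩, ?_, ?_⟩
  · have := (lwb_quadcent_mem_stab_iff _ g.1).mp g.2 (Fin.last n)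
    rwa [SubMulAction.ofStabilizer.snoc_last] at this
  · exact (lwb_quadstab_mem a y _).mpr g.2
  · intro k; rfl
  · intro g; rfl

theorem lwb_quad_stab (h : Quad X Λ (t + 1) ℓ δ) (ht : 1 ≤ t) (a : Λ) :
    Quad (stabilizer X a) (SubMulAction.ofStabilizer X a) t ℓ δ := by
  have := h.trans
  have hpre : IsPretransitive X Λ := by
    rw [← is_one_pretransitive_iff]
    exact isMultiplyPretransitive_of_le (n := t + 1) (by omega) (by rw [h.card_Λ]; omega)
  obtain ⟨s, rfl⟩ : ∃ s, t = s + 1 := ⟨t - 1, by omega⟩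
  refine ⟨?_, ?_, ?_, ?_, ?_⟩
  · exact (SubMulAction.ofStabilizer.isMultiplyPretransitive (a := a)).mp h.trans
  · rw [SubMulAction.nat_card_ofStabilizer_eq, h.card_Λ]
    omega
  · intro y
    rw [lwb_quadstab_card]
    exact h.cardK _
  · intro y
    rw [lwb_quadstab_card]
    exact h.odd _
  · intro y
    rw [lwb_quadstab_card]
    exact h.card5 _

end Cfsg.Agent.LWB
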