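import Mathlib
import Cfsg.Agent.LWB.QuadDefs
import Cfsg.Agent.LWB.QuadStab
import Cfsg.Agent.LWB.QuadCent
import Cfsg.Agent.LWB.QuadCop

set_option autoImplicit false

/-! S0748 package P9d (file `Cfsg/Agent/LWB/QuadFalse.lean`): there is no `Quad` with `ℓ ≥ 2` coprime to `δ`.
Blueprint `notes/S0748_blueprint_helper6.md` §9e. -/

namespace Cfsg.Agent.LWB

open MulAction

theorem lwb_quad_false {X Λ : Type*} [Group X] [MulAction X Λ] [Finite X] [Finite Λ] {ℓ δ : ℕ}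
    (h : Quad X Λ 4 ℓ δ) (hℓ : 2 ≤ ℓ) (hcop : Nat.Coprime ℓ δ) : False := by
  classical
  haveI : Fintype Λ := Fintype.ofFinite Λ
  -- a 4-tuple
  have hcard : Fintype.card (Fin 4) ≤ Fintype.card Λ := by
    rw [Fintype.card_fin, ← Nat.card_eq_fintype_card, h.card_Λ]
    omega
  obtain ⟨y⟩ := Function.Embedding.nonempty_of_card_le hcard
  -- the 4-point stabiliser has odd order
  have hKodd : Odd (Nat.card (stabilizer X y)) := by
    have hle : stabilizer X y ≤ stabilizer X ((Fin.castLEEmb (by omega : 3 ≤ 4)).trans y) := by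
      intro g hg
      rw [mem_stabilizer_iff] at hg ⊢
      ext i
      have := congrArg (fun z : Fin 4 ↪ Λ => z (Fin.castLE (by omega : 3 ≤ 4) i)) hg
      exact this
    exact Odd.of_dvd_nat (h.odd _) (Subgroup.card_dvd_of_le hle)
  -- a prime divisor of `ℓ`
  have hp : ℓ.minFac.Prime := Nat.minFac_prime (by omega)
  haveI : Fact ℓ.minFac.Prime := ⟨hp⟩
  have hpℓ : ℓ.minFac ∣ ℓ := Nat.minFac_dvd ℓ
  have hpδ : Nat.Coprime ℓ.minFac δ := Nat.Coprime.coprime_dvd_left hpℓ hcop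
  obtain ⟨b, b', c, hb, hb', hc, hbK, hb'K, hcδ, h1, h2, h3⟩ := lwb_quad_cent h (by omega) y
  have hKcard := h.cardK y
  refine lwb_quad_coprime (stabilizer X y) hKodd b b' hb hb' hc hbK hb'K ℓ.minFac ?_ ?_ ?_ ?_
  · rw [hKcard]
    exact Dvd.dvd.mul_right hpℓ δ
  · intro e he
    rw [hKcard] at he
    rw [h1]
    exact Dvd.dvd.mul_right ((Nat.Coprime.pow_left e hpδ).dvd_of_dvd_mul_right he) c
  · intro e he
    rw [hKcard] at he
    rw [h2]
    exact Dvd.dvd.mul_right ((Nat.Coprime.pow_left e hpδ).dvd_of_dvd_mul_right he) c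
  · rw [h3]
    intro hpc
    have h4 : ℓ.minFac ∣ δ := hpc.trans hcδ
    have h5 : ℓ.minFac ∣ Nat.gcd ℓ δ := Nat.dvd_gcd hpℓ h4
    rw [hcop.gcd_eq_one] at h5
    exact hp.one_lt.ne' (Nat.dvd_one.1 h5)

theorem lwb_quad_descend {ℓ δ : ℕ} (hℓ : 2 ≤ ℓ) (hcop : Nat.Coprime ℓ δ) (d : ℕ) :
    ∀ (X Λ : Type*) [Group X] [MulAction X Λ] [Finite X] [Finite Λ], Quad X Λ (4 + d) ℓ δ → False := by
  induction d with
  | zero =>
    intro X Λ _ _ _ _ h
    exact lwb_quad_false h hℓ hcop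
  | succ d ih =>
    intro X Λ _ _ _ _ h
    have hne : Nonempty Λ := by
      have : 0 < Nat.card Λ := by rw [h.card_Λ]; omega
      exact (Nat.card_pos_iff.1 this).1
    obtain ⟨a⟩ := hne
    have h' : Quad X Λ ((4 + d) + 1) ℓ δ := h
    exact ih (stabilizer X a) (SubMulAction.ofStabilizer X a) (lwb_quad_stab h' (by omega) a)

end Cfsg.Agent.LWB
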