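import Mathlib
import Cfsg.Agent.LWB.Defs
import Cfsg.Agent.LWB.Basic
import Cfsg.Agent.LW.Main

set_option autoImplicit false

/-! S0748 package P7 (file `Cfsg/Agent/LWB/SharpC.lean`): the case `δ = 1`.
Blueprint `notes/S0748_blueprint_helper6.md` §8. -/

namespace Cfsg.Agent.LWB

open MulAction

universe u

/-- (copy of the argument of `LW.lw_odds_swap` with the two facts it uses as hypotheses) if the
`t`-point stabilisers have even order and the `(t+1)`-point stabilisers are trivial, every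
transposition of a `(t+1)`-set is induced -/
theorem lwb_sharpc_swap {G α : Type*} [Group G] [MulAction G α] [Finite G] [Fintype α]
    [DecidableEq α] {t : ℕ} (ht1 : 1 ≤ t)
    (heven : ∀ Γ : Set α, Γ.ncard = t → Even (Nat.card (fixingSubgroup G Γ)))
    (htriv0 : ∀ Δ : Set α, t + 1 ≤ Δ.ncard → fixingSubgroup G Δ = ⊥)
    (Δ : Finset α) (hΔ : Δ.card = t + 1) (x : α) (hx : x ∈ Δ) (x' : α) (hx' : x' ∈ Δ)
    (hne : x ≠ x') :
    ∃ g : G, g • x = x' ∧ g • x' = x ∧ ∀ w ∈ Δ, w ≠ x → w ≠ x' → g • w = w := by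
  classical
  set Γ₀ : Finset α := (Δ.erase x).erase x' with hΓ₀
  have hx'e : x' ∈ Δ.erase x := Finset.mem_erase.2 ⟨hne.symm, hx'⟩
  have hcard0 : Γ₀.card + 2 = t + 1 := by
    rw [hΓ₀, Finset.card_erase_of_mem hx'e, Finset.card_erase_of_mem hx, hΔ]
    omega
  have hxΓ : x ∉ Γ₀ := by
    rw [hΓ₀]; intro hmem
    exact (Finset.mem_erase.1 (Finset.mem_erase.1 hmem).2).1 rfl
  have hx'Γ : x' ∉ Γ₀ := by
    rw [hΓ₀]; intro hmem
    exact (Finset.mem_erase.1 hmem).1 rfl
  have hmemΓ : ∀ w ∈ Δ, w ≠ x → w ≠ x' → w ∈ Γ₀ := by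
    intro w hw hwx hwx'
    rw [hΓ₀]
    exact Finset.mem_erase.2 ⟨hwx', Finset.mem_erase.2 ⟨hwx, hw⟩⟩
  -- choose an involution in every `t`-point stabiliser containing `Γ₀`
  have key : ∀ y, y ∉ Γ₀ → ∃ u : G, u ∈ fixingSubgroup G ((insert y Γ₀ : Finset α) : Set α) ∧
      orderOf u = 2 := by
    intro y hy
    apply LW.lw_odds_exists_invol
    apply heven
    rw [Set.ncard_coe_finset, Finset.card_insert_of_notMem hy]
    omega
  choose! u hu using key
  have hfixy : ∀ y, y ∉ Γ₀ → u y • y = y := by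
    intro y hy
    exact (mem_fixingSubgroup_iff G).1 (hu y hy).1 y (by simp)
  have hfixΓ : ∀ y, y ∉ Γ₀ → ∀ w ∈ Γ₀, u y • w = w := by
    intro y hy w hw
    exact (mem_fixingSubgroup_iff G).1 (hu y hy).1 w (by simp [hw])
  have hsq : ∀ y, y ∉ Γ₀ → u y * u y = 1 := by
    intro y hy
    have := pow_orderOf_eq_one (u y)
    rwa [(hu y hy).2, pow_two] at this
  have hne1 : ∀ y, y ∉ Γ₀ → u y ≠ 1 := by
    intro y hy h1
    have := (hu y hy).2
    rw [h1, orderOf_one] at this
    omega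
  -- an element fixing `Γ₀` and two further points is trivial
  have htriv : ∀ (g : G) (a b : α), a ∉ Γ₀ → b ∉ Γ₀ → a ≠ b → (∀ w ∈ Γ₀, g • w = w) →
      g • a = a → g • b = b → g = 1 := by
    intro g a b ha hb hab hg hga hgb
    have hbot := htriv0 ((insert a (insert b Γ₀) : Finset α) : Set α) (by
      rw [Set.ncard_coe_finset, Finset.card_insert_of_notMem, Finset.card_insert_of_notMem hb]
      · omega
      · simp only [Finset.mem_insert, not_or]
        exact ⟨hab, ha⟩)
    have hmem : g ∈ fixingSubgroup G ((insert a (insert b Γ₀) : Finset α) : Set α) := by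
      rw [mem_fixingSubgroup_iff]
      intro w hw
      simp only [Finset.coe_insert, Set.mem_insert_iff, Finset.mem_coe] at hw
      rcases hw with rfl | rfl | hw
      · exact hga
      · exact hgb
      · exact hg w hw
    rw [hbot] at hmem
    exact Subgroup.mem_bot.1 hmem
  have hmove : ∀ y, y ∉ Γ₀ → ∀ z, z ∉ Γ₀ → z ≠ y → u y • z ≠ z := by
    intro y hy z hz hzy hfix
    exact hne1 y hy (htriv (u y) z y hz hy hzy (hfixΓ y hy) hfix (hfixy y hy))
  have hout : ∀ y, y ∉ Γ₀ → ∀ z, z ∉ Γ₀ → u y • z ∉ Γ₀ := by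
    intro y hy z hz hmem
    have h1 := hfixΓ y hy _ hmem
    have h2 : u y • z = z := smul_left_cancel (u y) h1
    exact hz (h2 ▸ hmem)
  -- the self-map `y ↦ u y • x` of the points outside `Γ₀ ∪ {x}`
  let S := {y : α // y ∉ Γ₀ ∧ y ≠ x}
  let f : S → S := fun y => ⟨u y.1 • x, hout y.1 y.2.1 x hxΓ, hmove y.1 y.2.1 x hxΓ y.2.2.symm⟩
  have hinj : Function.Injective f := by
    rintro ⟨y, hy, hyx⟩ ⟨y', hy', hy'x⟩ hff
    have hz : u y • x = u y' • x := congrArg Subtype.val hff
    have hzΓ : u y • x ∉ Γ₀ := hout y hy x hxΓ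
    have hzx : u y • x ≠ x := hmove y hy x hxΓ hyx.symm
    have hinv : (u y)⁻¹ = u y := inv_eq_of_mul_eq_one_left (hsq y hy)
    have hg1 : (u y)⁻¹ * u y' = 1 := by
      apply htriv _ x (u y • x) hxΓ hzΓ hzx.symm
      · intro w hw
        rw [mul_smul, hfixΓ y' hy' w hw, hinv, hfixΓ y hy w hw]
      · rw [mul_smul, ← hz, inv_smul_smul]
      · rw [mul_smul, hz, smul_smul (u y') (u y') x, hsq y' hy', one_smul, hinv, ← hz]
    have huu : u y' = u y := by
      have := inv_mul_eq_one.1 hg1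
      exact this.symm
    have hyy : y' = y := by
      by_contra hcon
      exact hmove y hy y' hy' hcon (by rw [← huu]; exact hfixy y' hy')
    subst hyy
    rfl
  have hsurj : Function.Surjective f := Finite.injective_iff_surjective.1 hinj
  obtain ⟨⟨y, hy, hyx⟩, hfy⟩ := hsurj ⟨x', hx'Γ, hne.symm⟩
  have hyx' : u y • x = x' := congrArg Subtype.val hfy
  refine ⟨u y, hyx', ?_, ?_⟩
  · rw [← hyx', ← mul_smul, hsq y hy, one_smul]
  · intro w hw hwx hwx'
    exact hfixΓ y hy w (hmemΓ w hw hwx hwx')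

variable {α : Type u} [Fintype α] [DecidableEq α] {G : Subgroup (Equiv.Perm α)} {t ℓ : ℕ}

/-- with `δ = 1` the pointwise stabiliser of `t + 1` points is trivial -/
theorem lwb_sharpc_fix_bot (h : Hyp2 G t ℓ 1) (Δ : Set α) (hΔ : t + 1 ≤ Δ.ncard) :
    fixingSubgroup G Δ = ⊥ := by
  classical
  obtain ⟨Δ', hsub, hcard⟩ := Set.exists_subset_card_eq hΔ
  have hfin : Δ'.Finite := Set.toFinite Δ'
  have hc : hfin.toFinset.card = t + 1 := by
    rw [← Set.ncard_eq_toFinset_card Δ' hfin]; exact hcard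
  have h1 := h.cardD hfin.toFinset hc
  rw [Set.Finite.coe_toFinset] at h1
  have h2 : fixingSubgroup G Δ' = ⊥ := Subgroup.eq_bot_of_card_eq _ h1
  rw [eq_bot_iff, ← h2]
  exact fixingSubgroup_antitone G α hsub

theorem lwb_sharp (h : Hyp2 G t ℓ 1) : False := by
  classical
  have ht := h.ht
  have hn := h.hn
  obtain ⟨Γ, -, hΓ⟩ := Finset.exists_subset_card_eq (s := (Finset.univ : Finset α)) (n := t)
    (by rw [Finset.card_univ]; omega)
  have hcardG : Nat.card G = (Nat.card α).descFactorial t * ℓ := by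
    have h1 := LW.lw_card_of_trans h.trans (Γ : Set α) (by rw [Set.ncard_coe_finset, hΓ])
    rw [h.cardK Γ hΓ, mul_one] at h1
    exact h1
  have hcα : Nat.card α = t + (Fintype.card α - t) := by
    rw [Nat.card_eq_fintype_card]; omega
  have hS : LW.Sharp G α t ℓ (Fintype.card α - t) :=
    { trans := h.trans
      card_α := hcα
      card_G := by rw [hcardG, hcα]
      fix := fun g hg => by
        have h1 : g ∈ fixingSubgroup G (fixedBy α g) :=
          (mem_fixingSubgroup_iff G).2 (fun y hy => hy)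
        rw [lwb_sharpc_fix_bot h _ hg] at h1
        exact Subgroup.mem_bot.1 h1 }
  have hodd : Odd ℓ := by
    by_contra hodd
    rw [Nat.not_odd_iff_even] at hodd
    apply h.ntrans
    apply LW.lw_trans_of_swaps h.homog
    intro Δ hΔ x hx y hy hxy
    refine lwb_sharpc_swap (by omega) (fun Γ' hΓ' => ?_) (lwb_sharpc_fix_bot h) Δ hΔ x hx y hy hxy
    have hfin : Γ'.Finite := Set.toFinite Γ'
    have hc : hfin.toFinset.card = t := by
      rw [← Set.ncard_eq_toFinset_card Γ' hfin]; exact hΓ'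
    have h1 := h.cardK hfin.toFinset hc
    rw [Set.Finite.coe_toFinset, mul_one] at h1
    rw [h1]
    exact hodd
  obtain ⟨h7, hℓ⟩ := LW.lw_ge4 hS ht hodd (by omega) (lwb_two_mul_le h)
  obtain ⟨Δ, -, hΔ⟩ := Finset.exists_subset_card_eq (s := (Finset.univ : Finset α)) (n := t + 1)
    (by rw [Finset.card_univ]; omega)
  have h2 := LW.lw_card_of_homog h.homog (Set.powersetCard.ofCard hΔ)
  have hn' : Fintype.card α = t + 7 := by omega
  rw [hcardG, hℓ, mul_one, Nat.card_eq_fintype_card, hn'] at h2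
  have ht5 : t ≤ 5 := by omega
  have hdvd : (t + 7).choose (t + 1) ∣ (t + 7).descFactorial t := ⟨_, h2⟩
  clear h2 hS hcardG
  interval_cases t
  · revert hdvd; decide
  · revert hdvd; decide

end Cfsg.Agent.LWB
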