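import Mathlib
import Cfsg.Agent.LWB.Defs
import Cfsg.Agent.LWB.Basic
import Cfsg.Agent.LWB.CaseB
import Cfsg.Agent.LWB.CaseA
import Cfsg.Agent.LWB.SharpC
import Cfsg.Agent.LWB.OddC
import Cfsg.Agent.LWB.QuadDefs
import Cfsg.Agent.LWB.QuadFalse
import Cfsg.Agent.S0746

set_option autoImplicit false

/-! S0748 package P10 (file `Cfsg/Agent/LWB/Final.lean`): assembly.
Blueprint `notes/S0748_blueprint_helper6.md` §10. -/

namespace Cfsg.Agent.LWB

open MulAction

universe u

variable {α : Type u} [Fintype α] [DecidableEq α] {G : Subgroup (Equiv.Perm α)} {t ℓ δ : ℕ}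

/-- the stabiliser of an injective tuple is the pointwise stabiliser of its range -/
theorem lwb_final_stab_eq {X β : Type*} [Group X] [MulAction X β] {k : ℕ} (y : Fin k ↪ β) :
    stabilizer X y = fixingSubgroup X (Set.range y) := by
  ext g
  rw [mem_stabilizer_iff, mem_fixingSubgroup_iff]
  constructor
  · rintro hg _ ⟨i, rfl⟩
    have := congrArg (fun z : Fin k ↪ β => z i) hg
    exact this
  · intro hg
    ext i
    exact hg (y i) ⟨i, rfl⟩

theorem lwb_final_stab_card {X β : Type*} [Group X] [MulAction X β] [DecidableEq β] {k : ℕ}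
    (y : Fin k ↪ β) :
    Nat.card (stabilizer X y) =
      Nat.card (fixingSubgroup X ((Finset.univ.map y : Finset β) : Set β)) := by
  rw [lwb_final_stab_eq]
  have : ((Finset.univ.map y : Finset β) : Set β) = Set.range y := by
    ext z
    simp
  rw [this]

theorem lwb_quad_of_hyp (h : Hyp2 G t ℓ δ) (hr : Fintype.card α - t = 2 * ℓ) :
    Quad G α t ℓ δ := by
  have hn := h.hn
  have ht := h.ht
  refine ⟨h.trans, ?_, ?_, ?_, ?_⟩
  · rw [Nat.card_eq_fintype_card]
    omega
  · intro y
    rw [lwb_final_stab_card]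
    exact h.cardK _ (by simp)
  · intro y
    rw [lwb_final_stab_card]
    exact lwb_odd h hr _ (by simp; omega)
  · intro y
    rw [lwb_final_stab_card]
    exact h.cardD _ (by simp)

theorem lwb_final (h : Hyp2 G t ℓ δ) (hr : Fintype.card α - t = 2 * ℓ) (hcop : Nat.Coprime ℓ δ) :
    False := by
  have hn := h.hn
  have ht := h.ht
  have hq := lwb_quad_of_hyp h hr
  obtain ⟨d, rfl⟩ := Nat.exists_eq_add_of_le ht
  exact lwb_quad_descend (by omega) hcop d G α hq

/-- the main theorem -/
theorem lwb_main (t : ℕ) (ht : 4 ≤ t) : ∀ n : ℕ, ∀ (α : Type u) [Fintype α] [DecidableEq α]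
    (G : Subgroup (Equiv.Perm α)), Fintype.card α = n → 2 * t + 2 ≤ Fintype.card α →
    IsPretransitive G (Set.powersetCard α (t + 1)) → IsMultiplyPretransitive G α (t + 1) := by
  intro n
  induction n using Nat.strong_induction_on with
  | _ n ihn =>
    intro α _ _ G hcard hn hh
    by_contra hnt
    have htr : IsMultiplyPretransitive G α t := by
      have := Cfsg.Agent.S0746.result G (k := t + 1) (by omega) (by omega) hh
      simpa using this
    obtain ⟨ℓ, δ, h⟩ := lwb_exists_hyp ht hn htr hh hnt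
    have ih : IH.{u} (Fintype.card α) t := by
      intro β _ _ N hβ hβ2 hhβ
      exact ihn (Fintype.card β) (by omega) β N rfl hβ2 hhβ
    obtain ⟨hℓ, hδ⟩ := lwb_pos h
    rcases Nat.eq_or_lt_of_le hδ with hδ1 | hδ1
    · subst hδ1
      exact lwb_sharp h
    · obtain ⟨q, hq, hqδ⟩ := Nat.exists_prime_and_dvd (by omega : δ ≠ 1)
      haveI := Fact.mk hq
      have hcop : Nat.Coprime ℓ δ := by
        by_contra hc
        obtain ⟨p, hp, hpℓ, hpδ⟩ := Nat.Prime.not_coprime_iff_dvd.1 hc
        haveI := Fact.mk hp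
        exact lwb_caseB h ih p hpδ hpℓ
      have hqℓ : ¬ q ∣ ℓ := fun hqℓ => lwb_caseB h ih q hqδ hqℓ
      have hr := lwb_caseA h ih q hqδ hqℓ
      exact lwb_final h hr hcop

end Cfsg.Agent.LWB
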